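import Cfsg.Agent.Lib.Spor.Cos.Fi22Inv.Tree
import Cfsg.Agent.Lib.Fus.M22U.Model

/-! Every automorphism of order two fixes a transposition. -/

set_option autoImplicit false
set_option maxRecDepth 100000

namespace Cfsg.Agent.Spor.Cos.Fi22Inv

open InvSearch Cfsg.Agent.Spor.Cos.Fi22 Cfsg.Agent.Fus.Fi22Out Cfsg.Agent.Fus.Transp

theorem ev_tw : ev Fi22.g tw = Fi22.g 0 := by simp [tw, ev]

theorem exists_fixed (φ : MulAut Cfsg.Spor.Fi22) (hφ : φ * φ = 1) : ∃ p, φ (setup.T p) = setup.T p := by
  by_contra hne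
  have hne : ∀ p, φ (setup.T p) ≠ setup.T p := fun p h => hne ⟨p, h⟩
  have hcls : ∀ p, IsConj (ev Fi22.g tw) (φ (setup.T p)) := fun p =>
    (tz_class φ).trans (φ.toMonoidHom.map_isConj (setup.isConj_T p))
  choose F hF using fun p => setup.exists_T (hcls p)
  have hinv : ∀ x, φ (φ x) = x := fun x => by rw [← MulAut.mul_apply, hφ, MulAut.one_apply]
  refine no_free_inv F ⟨fun p => setup.T_inj ?_, fun p h => hne p ?_, fun p => ?_, fun p r => setup.T_inj ?_⟩
  · rw [hF, hF, hinv]
  · rw [← hF, h]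
  · set a := setup.T p with ha
    set c := setup.T (F p) with hc
    have hca : φ a = c := (hF p).symm
    have hac : φ c = a := by rw [hc, hF, hinv]
    have sq : ∀ r, setup.T r * setup.T r = 1 := fun r => by
      obtain ⟨y, hy⟩ := isConj_iff.1 (setup.isConj_T r)
      rw [← hy, conj_mul, ev_tw, Fi22.g_sq, mul_one, mul_inv_cancel]
    have hai : a⁻¹ = a := inv_eq_of_mul_eq_one_right (sq p)
    have hci : c⁻¹ = c := inv_eq_of_mul_eq_one_right (sq (F p))
    refine (setup.comm_iff a (F p)).1 ?_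
    obtain ⟨u, hu⟩ := isConj_iff.1 (setup.isConj_T p)
    obtain ⟨v, hv⟩ := isConj_iff.1 (setup.isConj_T (F p))
    have e : a * c = v * ((v⁻¹ * u) * tz * (v⁻¹ * u)⁻¹ * tz) * v⁻¹ := by
      rw [ha, hc, ← hu, ← hv, show ev Fi22.g tw = tz from rfl]; group
    have h := prod_pow (v⁻¹ * u)
    rcases h with h | h
    · have e2 : (a * c) * (a * c) = 1 := by rw [← pow_two, e, conj_pow, h, mul_one, mul_inv_cancel]
      have := inv_eq_of_mul_eq_one_right e2
      rw [mul_inv_rev, hai, hci] at this
      exact this.symm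
    · exfalso
      have e3 : (a * c) * (a * c) * (a * c) = 1 := by
        rw [← pow_two, ← pow_succ, e, conj_pow, h, mul_one, mul_inv_cancel]
      have e4 : a * c * a = c * a * c := by
        have := eq_inv_of_mul_eq_one_left (show (a * c * a) * (c * a * c) = 1 by rw [← e3]; group)
        simpa only [mul_inv_rev, hai, hci, mul_assoc] using this
      refine hne (piB a (F p)) ?_
      rw [setup.T_apply, ← hc, map_mul, map_mul, map_inv, hca, hac, hai, hci]
      exact e4.symm
  · rw [hF, setup.T_apply, map_mul, map_mul, map_inv, setup.T_apply, hF, hF]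

end Cfsg.Agent.Spor.Cos.Fi22Inv
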