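import Cfsg.Agent.Lib.Fus.TranspPoints

/-!
A search for maps of order two of the points of a class of involutions, moving every point to a commuting one.
-/

set_option autoImplicit false

namespace Cfsg.Agent.Spor.Cos.InvSearch

open Cfsg.Agent.Spor.Cos Cfsg.Agent.Spor.Cos.Triple Cfsg.Agent.Fus.Transp

/-- A point with a word from the base. -/
structure IPt where
  /-- the point -/
  p : ℕ
  /-- the word -/
  u : List ℕ

/-- A representative with the points taken to it, each with a word doing so. -/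
structure IKid where
  /-- the representative -/
  pt : IPt
  /-- the points -/
  mem : List (ℕ × List ℕ)

/-- A word lists generators only. -/
noncomputable def okW (A : Act) (w : List ℕ) : Bool := w.all fun s => Nat.blt s A.n

/-- The check of a point. -/
noncomputable def chkIPt (A : Act) (b : ℕ) (e : IPt) : Bool := okW A e.u && Nat.beq (A.go e.u b) e.p

/-- The check of a node. -/
noncomputable def chkINode (A : Act) (q : List ℕ) (b : ℕ) (asg : List (ℕ × IPt)) (j : ℕ) (kids : List IKid) : Bool :=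
  Nat.blt j A.n && (asg.all fun e => Nat.blt e.1 A.n && chkIPt A b e.2) &&
    kids.all fun k => chkIPt A b k.pt && k.mem.all fun m =>
      okW A m.2 && Nat.beq (A.go m.2 m.1) k.pt.p && Nat.beq (A.go m.2 (q.getD j 0)) (q.getD j 0) &&
        asg.all fun e => Nat.beq (A.go m.2 (q.getD e.1 0)) (q.getD e.1 0) && Nat.beq (A.go m.2 e.2.p) e.2.p

/-- An assignment excludes a point as image. -/
noncomputable def badAt (A : Act) (q tw : List ℕ) (j x : ℕ) (e : ℕ × IPt) : Bool :=
  (Nat.beq (A.im x e.1) x != Nat.beq (A.im e.2.p j) e.2.p) ||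
    (Nat.beq (A.go (conjW tw e.2.u) x) x != Nat.beq (A.im (q.getD j 0) e.1) (q.getD j 0))

/-- A point is excluded or listed. -/
noncomputable def chkIScan (A : Act) (q tw : List ℕ) (asg : List (ℕ × IPt)) (j : ℕ) (kids : List IKid) (x : ℕ) :
    Bool :=
  !(Nat.beq (A.im x j) x) || Nat.beq x (q.getD j 0) || asg.any (badAt A q tw j x) ||
    kids.any fun k => k.mem.any fun m => Nat.beq m.1 x

/-- The check of a leaf. -/
noncomputable def chkILeaf (A : Act) (q tw : List ℕ) (b : ℕ) (asg : List (ℕ × IPt)) (ps : List IPt) (w : List ℕ)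
    (s₀ : ℕ) : Bool :=
  (tw.all fun s => Nat.blt s A.n) && Nat.blt s₀ A.n && okW A w &&
    ((List.range A.n).all fun s => chkIPt A b (ps.getD s ⟨0, []⟩) &&
      asg.any fun e => Nat.beq e.1 s && Nat.beq e.2.p (ps.getD s ⟨0, []⟩).p) &&
    force (A.go w (q.getD s₀ 0)) fun r =>
      force (A.go (w.flatMap fun s => conjW tw (ps.getD s ⟨0, []⟩).u) (ps.getD s₀ ⟨0, []⟩).p) fun v =>
        Nat.beq v r || !(Nat.beq (A.go (w ++ [s₀] ++ w.reverse) v) v)

theorem go_append (A : Act) : ∀ (v w : List ℕ) (p : ℕ), A.go (v ++ w) p = A.go v (A.go w p)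
  | [], _, _ => rfl
  | s :: v, w, p => by rw [List.cons_append, A.go_cons, go_append A v w p, A.go_cons]

variable {G : Type*} [Group G] {g : ℕ → G} {A : Act} {π : G →* Equiv.Perm (Fin A.N)} {q : List ℕ} {b : Fin A.N}
  {tw : List ℕ}

/-- A map of order two preserving the class product, each point moved to a commuting one. -/
structure FreeInv (S : Setup g A π q b tw) (F : Fin A.N → Fin A.N) : Prop where
  inv : ∀ p, F (F p) = p
  free : ∀ p, F p ≠ p
  com : ∀ p, π (S.T p) (F p) = F p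
  hom : ∀ p r, F (π (S.T p) r) = π (S.T (F p)) (F r)

/-- The map takes the assigned generators to their points. -/
def IMatch (q : List ℕ) (F : Fin A.N → Fin A.N) (asg : List (ℕ × IPt)) : Prop :=
  ∀ e ∈ asg, ∀ h : q.getD e.1 0 < A.N, (F ⟨q.getD e.1 0, h⟩ : ℕ) = e.2.p

variable (S : Setup g A π q b tw)

include S in
theorem apply_q {s : ℕ} (hs : s < A.n) (r : Fin A.N) : (π (S.T ⟨q.getD s 0, S.q_lt hs⟩) r : ℕ) = A.im r s := by
  rw [S.T_q hs, show g s = ev g [s] by simp [ev],
    S.hom.apply_ev [s] (fun t ht => by rwa [List.mem_singleton.1 ht]) r, A.go_cons, A.go_nil]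

theorem okW_spec {A : Act} {w : List ℕ} (h : okW A w = true) : ∀ s ∈ w, s < A.n := fun s hs =>
  Nat.le_of_ble_eq_true (List.all_eq_true.1 h s hs)

include S in
theorem apply_pt (htw : ∀ s ∈ tw, s < A.n) {e : IPt} (he : chkIPt A b e = true) {p : Fin A.N} (hp : (p : ℕ) = e.p)
    (r : Fin A.N) : (π (S.T p) r : ℕ) = A.go (conjW tw e.u) r := by
  rw [chkIPt, Bool.and_eq_true] at he
  have hu := okW_spec he.1
  have hy : π (ev g e.u) b = p :=
    Fin.ext ((S.hom.apply_ev e.u hu b).trans ((Nat.eq_of_beq_eq_true he.2).trans hp.symm))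
  rw [S.T_of_apply hy]
  have hl : ∀ s ∈ conjW tw e.u, s < A.n := fun s hs => by
    simp only [conjW, List.mem_append, List.mem_reverse] at hs
    rcases hs with hs | hs | hs
    exacts [hu s hs, htw s hs, hu s hs]
  rw [← S.hom.apply_ev _ hl r, conjW, ev_append, ev_append, ev_reverse (fun t _ => S.sq t) _ hu]
  rw [mul_assoc]

include S in
theorem fix_symm {p r : Fin A.N} (h : π (S.T p) r = r) : π (S.T r) p = p :=
  (S.comm_iff (S.T r) p).1 ((S.comm_iff (S.T p) r).2 h).symm

include S in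
theorem FreeInv.fix_iff {F : Fin A.N → Fin A.N} (hF : FreeInv S F) (p r : Fin A.N) :
    π (S.T (F p)) (F r) = F r ↔ π (S.T p) r = r := by
  rw [← hF.hom]
  exact (Function.Involutive.injective hF.inv).eq_iff

include S in
theorem FreeInv.conj {F : Fin A.N → Fin A.N} (hF : FreeInv S F) (y : G) :
    FreeInv S fun p => π y (F ((π y)⁻¹ p)) := by
  have hs : ∀ p, (π y)⁻¹ (π y p) = p := fun p => (π y).symm_apply_apply p
  have hs' : ∀ p, π y ((π y)⁻¹ p) = p := fun p => (π y).apply_symm_apply p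
  have key : ∀ p r, π (S.T (π y p)) (π y r) = π y (π (S.T p) r) := fun p r => by
    rw [S.T_apply, map_mul, map_mul, map_inv, Equiv.Perm.mul_apply, Equiv.Perm.mul_apply, hs]
  refine ⟨fun p => ?_, fun p h => ?_, fun p => ?_, fun p r => ?_⟩
  · show π y (F ((π y)⁻¹ (π y (F ((π y)⁻¹ p))))) = p
    rw [hs, hF.inv, hs']
  · exact hF.free ((π y)⁻¹ p) ((π y).injective (h.trans (hs' p).symm))
  · conv_lhs => arg 1; arg 2; rw [← hs' p]
    rw [key, hF.com]
  · obtain ⟨p, rfl⟩ : ∃ p', π y p' = p := ⟨_, hs' p⟩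
    obtain ⟨r, rfl⟩ : ∃ r', π y r' = r := ⟨_, hs' r⟩
    simp only [key, hs, hF.hom]

include S in
theorem not_badAt (htw : ∀ s ∈ tw, s < A.n) {F : Fin A.N → Fin A.N} (hF : FreeInv S F) {j : ℕ} (hj : j < A.n)
    {e : ℕ × IPt} (ha : e.1 < A.n) (he : chkIPt A b e.2 = true)
    (hP : (F ⟨q.getD e.1 0, S.q_lt ha⟩ : ℕ) = e.2.p) :
    badAt A q tw j (F ⟨q.getD j 0, S.q_lt hj⟩) e = false := by
  set a : Fin A.N := ⟨q.getD e.1 0, S.q_lt ha⟩ with ha'
  set c : Fin A.N := ⟨q.getD j 0, S.q_lt hj⟩ with hc'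
  have i1 : A.im (F c) e.1 = (F c : ℕ) ↔ A.im e.2.p j = e.2.p := by
    rw [← apply_q S ha, ← Fin.ext_iff, ← hP, ← apply_q S hj, ← Fin.ext_iff]
    constructor
    · intro h
      have := (hF.fix_iff S a (F c)).2 h
      rw [hF.inv] at this
      exact fix_symm S this
    · intro h
      have := fix_symm S h
      refine (hF.fix_iff S a (F c)).1 ?_
      rwa [hF.inv]
  have i2 : A.go (conjW tw e.2.u) (F c) = (F c : ℕ) ↔ A.im (q.getD j 0) e.1 = q.getD j 0 := by
    rw [← apply_pt S htw he hP, show q.getD j 0 = (c : ℕ) from rfl, ← apply_q S ha, ← Fin.ext_iff, ← Fin.ext_iff]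
    exact hF.fix_iff S a c
  have hb : ∀ {x y x' y' : ℕ}, (x = y ↔ x' = y') → (Nat.beq x y != Nat.beq x' y') = false := by
    intro x y x' y' h
    by_cases hx : x = y
    · obtain rfl := hx
      obtain rfl := h.1 rfl
      simp
    · have hx' : x' ≠ y' := fun e => hx (h.2 e)
      rw [show Nat.beq x y = false from Bool.eq_false_iff.2 fun e => hx (Nat.eq_of_beq_eq_true e),
        show Nat.beq x' y' = false from Bool.eq_false_iff.2 fun e => hx' (Nat.eq_of_beq_eq_true e)]
      rfl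
  rw [badAt, hb i1, hb i2]
  rfl

include S in
theorem istep (htw : ∀ s ∈ tw, s < A.n) {asg : List (ℕ × IPt)} {j : ℕ} {kids : List IKid}
    (hnode : chkINode A q b asg j kids = true)
    (hscan : ∀ x < A.N, chkIScan A q tw asg j kids x = true)
    (hk : ∀ k ∈ kids, ∀ F, FreeInv S F → IMatch q F (asg ++ [(j, k.pt)]) → False)
    (F : Fin A.N → Fin A.N) (hF : FreeInv S F) (hM : IMatch q F asg) : False := by
  simp only [chkINode, Bool.and_eq_true, List.all_eq_true] at hnode
  obtain ⟨⟨hj, hasg⟩, hkids⟩ := hnode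
  have hj' : j < A.n := Nat.le_of_ble_eq_true hj
  set c : Fin A.N := ⟨q.getD j 0, S.q_lt hj'⟩ with hc
  have hs := hscan (F c) (F c).2
  simp only [chkIScan, Bool.or_eq_true, Bool.not_eq_true', List.any_eq_true] at hs
  rcases hs with ((h | h) | ⟨e, he, h⟩) | ⟨k, hkm, m, hm, h⟩
  · rw [← apply_q S hj', show π (S.T ⟨q.getD j 0, S.q_lt hj'⟩) (F c) = F c from hF.com c, Nat.beq_refl] at h
    exact Bool.noConfusion h
  · exact hF.free c (Fin.ext (Nat.eq_of_beq_eq_true h))
  · have ha : e.1 < A.n := Nat.le_of_ble_eq_true (hasg e he).1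
    rw [not_badAt S htw hF hj' ha (hasg e he).2 (hM e he _)] at h
    exact Bool.noConfusion h
  · obtain ⟨⟨⟨hw, hx⟩, hq⟩, hfix⟩ := (hkids k hkm).2 m hm
    have hl := okW_spec hw
    have hy : ∀ z : Fin A.N, (π (ev g m.2) z : ℕ) = A.go m.2 z := S.hom.apply_ev m.2 hl
    refine hk k hkm _ (hF.conj S (ev g m.2)) fun e he hlt => ?_
    have fixb : ∀ z : Fin A.N, A.go m.2 z = (z : ℕ) → (π (ev g m.2))⁻¹ z = z := fun z hz => by
      rw [Equiv.Perm.inv_eq_iff_eq]
      exact Fin.ext ((hy z).trans hz).symm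
    show (π (ev g m.2) (F ((π (ev g m.2))⁻¹ _)) : ℕ) = _
    rcases List.mem_append.1 he with he | he
    · have h2 := hfix e he
      rw [fixb _ (Nat.eq_of_beq_eq_true h2.1), hy, hM e he hlt]
      exact Nat.eq_of_beq_eq_true h2.2
    · obtain rfl := List.mem_singleton.1 he
      rw [fixb _ (Nat.eq_of_beq_eq_true hq), hy]
      show A.go m.2 (F c : ℕ) = k.pt.p
      rw [← Nat.eq_of_beq_eq_true h]
      exact Nat.eq_of_beq_eq_true hx

include S in
theorem ileaf (htw : ∀ s ∈ tw, s < A.n) {asg : List (ℕ × IPt)} {ps : List IPt} {w : List ℕ} {s₀ : ℕ}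
    (h : chkILeaf A q tw b asg ps w s₀ = true) (F : Fin A.N → Fin A.N) (hF : FreeInv S F) (hM : IMatch q F asg) :
    False := by
  simp only [chkILeaf, force_eq, Bool.and_eq_true, List.all_eq_true, List.any_eq_true, List.mem_range] at h
  obtain ⟨⟨⟨⟨-, hs₀⟩, hw⟩, hps⟩, hlast⟩ := h
  have hs₀' : s₀ < A.n := Nat.le_of_ble_eq_true hs₀
  have hwl := okW_spec hw
  have img : ∀ s (hs : s < A.n), (F ⟨q.getD s 0, S.q_lt hs⟩ : ℕ) = (ps.getD s ⟨0, []⟩).p := fun s hs => by
    obtain ⟨-, e, he, h1, h2⟩ := hps s hs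
    have h3 := hM e he
    rw [Nat.eq_of_beq_eq_true h1] at h3
    exact (h3 (S.q_lt hs)).trans (Nat.eq_of_beq_eq_true h2)
  have key : ∀ (w : List ℕ), (∀ s ∈ w, s < A.n) → ∀ z : Fin A.N, (F (π (ev g w) z) : ℕ) =
      A.go (w.flatMap fun s => conjW tw (ps.getD s ⟨0, []⟩).u) (F z) := by
    intro w
    induction w with
    | nil => intro _ z; simp [ev, A.go_nil]
    | cons s w ih =>
      intro hl z
      have hs : s < A.n := hl s List.mem_cons_self
      rw [show ev g (s :: w) = g s * ev g w from rfl, map_mul, Equiv.Perm.mul_apply, ← S.T_q hs, hF.hom,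
        apply_pt S htw (hps s hs).1 (img s hs), ih (fun t ht => hl t (List.mem_cons_of_mem _ ht)),
        List.flatMap_cons, go_append]
  set z : Fin A.N := ⟨q.getD s₀ 0, S.q_lt hs₀'⟩ with hz
  set r := π (ev g w) z with hr
  have er : (r : ℕ) = A.go w (q.getD s₀ 0) := S.hom.apply_ev w hwl z
  rw [← er, ← img s₀ hs₀', ← key w hwl z, ← hr] at hlast
  rcases Bool.or_eq_true_iff.1 hlast with hv | hv
  · exact hF.free r (Fin.ext (Nat.eq_of_beq_eq_true hv))
  · have hl : ∀ s ∈ w ++ [s₀] ++ w.reverse, s < A.n := fun s hs => by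
      simp only [List.mem_append, List.mem_reverse, List.mem_singleton] at hs
      rcases hs with (hs | rfl) | hs
      exacts [hwl s hs, hs₀', hwl s hs]
    have eT : S.T r = ev g (w ++ [s₀] ++ w.reverse) := by
      rw [hr, S.T_apply, S.T_q hs₀', ev_append, ev_append, ev_reverse (fun t _ => S.sq t) _ hwl]
      simp [ev]
    rw [← S.hom.apply_ev _ hl (F r), ← eT, hF.com, Nat.beq_refl] at hv
    exact Bool.noConfusion hv

end Cfsg.Agent.Spor.Cos.InvSearch
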