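import Cfsg.Agent.Lib.Spor.Cos.Fi22Inv.TreeData
import Cfsg.Agent.Lib.Fus.Fi22Out.Main

/-! The checks of the tree. -/

set_option autoImplicit false
set_option maxRecDepth 100000
set_option maxHeartbeats 1000000

namespace Cfsg.Agent.Spor.Cos.Fi22Inv

open InvSearch Cfsg.Agent.Spor.Cos.Fi22 Cfsg.Agent.Fus.Fi22Out

theorem tw_lt : ∀ s ∈ tw, s < actB.n := fun s hs => by
  obtain rfl := List.mem_singleton.1 hs
  decide

theorem scan26_b : ∀ j < 4, allBlock (chkIScan actB qs tw asg26 3 kids26) 3510 1024 j = true := by
  intro j hj
  interval_cases j <;> decide +kernel

theorem node26 : ∀ F, FreeInv setup F → IMatch qs F asg26 → False :=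
  istep setup tw_lt (j := 3) (kids := kids26) (by decide +kernel)
    (of_blocks (size := 1024) (b := 4) (by decide) (by decide) scan26_b) fun k hk => by
    simp only [kids26, List.mem_cons, List.not_mem_nil, or_false] at hk

theorem scan25_b : ∀ j < 4, allBlock (chkIScan actB qs tw asg25 8 kids25) 3510 1024 j = true := by
  intro j hj
  interval_cases j <;> decide +kernel

theorem node25 : ∀ F, FreeInv setup F → IMatch qs F asg25 → False :=
  istep setup tw_lt (j := 8) (kids := kids25) (by decide +kernel)
    (of_blocks (size := 1024) (b := 4) (by decide) (by decide) scan25_b) fun k hk => by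
    simp only [kids25, List.mem_cons, List.not_mem_nil, or_false] at hk
    rcases hk with rfl
    · exact node26

theorem scan24_b : ∀ j < 4, allBlock (chkIScan actB qs tw asg24 5 kids24) 3510 1024 j = true := by
  intro j hj
  interval_cases j <;> decide +kernel

theorem node24 : ∀ F, FreeInv setup F → IMatch qs F asg24 → False :=
  istep setup tw_lt (j := 5) (kids := kids24) (by decide +kernel)
    (of_blocks (size := 1024) (b := 4) (by decide) (by decide) scan24_b) fun k hk => by
    simp only [kids24, List.mem_cons, List.not_mem_nil, or_false] at hk

theorem scan23_b : ∀ j < 4, allBlock (chkIScan actB qs tw asg23 5 kids23) 3510 1024 j = true := by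
  intro j hj
  interval_cases j <;> decide +kernel

theorem node23 : ∀ F, FreeInv setup F → IMatch qs F asg23 → False :=
  istep setup tw_lt (j := 5) (kids := kids23) (by decide +kernel)
    (of_blocks (size := 1024) (b := 4) (by decide) (by decide) scan23_b) fun k hk => by
    simp only [kids23, List.mem_cons, List.not_mem_nil, or_false] at hk

theorem node22 : ∀ F, FreeInv setup F → IMatch qs F asg22 → False :=
  ileaf setup tw_lt (ps := ps22) (w := lw22) (s₀ := 0) (by decide +kernel)

theorem scan21_b : ∀ j < 4, allBlock (chkIScan actB qs tw asg21 4 kids21) 3510 1024 j = true := by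
  intro j hj
  interval_cases j <;> decide +kernel

theorem node21 : ∀ F, FreeInv setup F → IMatch qs F asg21 → False :=
  istep setup tw_lt (j := 4) (kids := kids21) (by decide +kernel)
    (of_blocks (size := 1024) (b := 4) (by decide) (by decide) scan21_b) fun k hk => by
    simp only [kids21, List.mem_cons, List.not_mem_nil, or_false] at hk
    rcases hk with rfl
    · exact node22

theorem node20 : ∀ F, FreeInv setup F → IMatch qs F asg20 → False :=
  ileaf setup tw_lt (ps := ps20) (w := lw20) (s₀ := 0) (by decide +kernel)

theorem scan19_b : ∀ j < 4, allBlock (chkIScan actB qs tw asg19 4 kids19) 3510 1024 j = true := by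
  intro j hj
  interval_cases j <;> decide +kernel

theorem node19 : ∀ F, FreeInv setup F → IMatch qs F asg19 → False :=
  istep setup tw_lt (j := 4) (kids := kids19) (by decide +kernel)
    (of_blocks (size := 1024) (b := 4) (by decide) (by decide) scan19_b) fun k hk => by
    simp only [kids19, List.mem_cons, List.not_mem_nil, or_false] at hk
    rcases hk with rfl
    · exact node20

theorem scan18_b : ∀ j < 4, allBlock (chkIScan actB qs tw asg18 7 kids18) 3510 1024 j = true := by
  intro j hj
  interval_cases j <;> decide +kernel

theorem node18 : ∀ F, FreeInv setup F → IMatch qs F asg18 → False :=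
  istep setup tw_lt (j := 7) (kids := kids18) (by decide +kernel)
    (of_blocks (size := 1024) (b := 4) (by decide) (by decide) scan18_b) fun k hk => by
    simp only [kids18, List.mem_cons, List.not_mem_nil, or_false] at hk
    rcases hk with rfl | rfl
    · exact node19
    · exact node21

theorem scan17_b : ∀ j < 4, allBlock (chkIScan actB qs tw asg17 1 kids17) 3510 1024 j = true := by
  intro j hj
  interval_cases j <;> decide +kernel

theorem node17 : ∀ F, FreeInv setup F → IMatch qs F asg17 → False :=
  istep setup tw_lt (j := 1) (kids := kids17) (by decide +kernel)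
    (of_blocks (size := 1024) (b := 4) (by decide) (by decide) scan17_b) fun k hk => by
    simp only [kids17, List.mem_cons, List.not_mem_nil, or_false] at hk
    rcases hk with rfl
    · exact node18

theorem scan16_b : ∀ j < 4, allBlock (chkIScan actB qs tw asg16 2 kids16) 3510 1024 j = true := by
  intro j hj
  interval_cases j <;> decide +kernel

theorem node16 : ∀ F, FreeInv setup F → IMatch qs F asg16 → False :=
  istep setup tw_lt (j := 2) (kids := kids16) (by decide +kernel)
    (of_blocks (size := 1024) (b := 4) (by decide) (by decide) scan16_b) fun k hk => by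
    simp only [kids16, List.mem_cons, List.not_mem_nil, or_false] at hk
    rcases hk with rfl
    · exact node17

theorem scan15_b : ∀ j < 4, allBlock (chkIScan actB qs tw asg15 5 kids15) 3510 1024 j = true := by
  intro j hj
  interval_cases j <;> decide +kernel

theorem node15 : ∀ F, FreeInv setup F → IMatch qs F asg15 → False :=
  istep setup tw_lt (j := 5) (kids := kids15) (by decide +kernel)
    (of_blocks (size := 1024) (b := 4) (by decide) (by decide) scan15_b) fun k hk => by
    simp only [kids15, List.mem_cons, List.not_mem_nil, or_false] at hk
    rcases hk with rfl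
    · exact node16

theorem scan14_b : ∀ j < 4, allBlock (chkIScan actB qs tw asg14 5 kids14) 3510 1024 j = true := by
  intro j hj
  interval_cases j <;> decide +kernel

theorem node14 : ∀ F, FreeInv setup F → IMatch qs F asg14 → False :=
  istep setup tw_lt (j := 5) (kids := kids14) (by decide +kernel)
    (of_blocks (size := 1024) (b := 4) (by decide) (by decide) scan14_b) fun k hk => by
    simp only [kids14, List.mem_cons, List.not_mem_nil, or_false] at hk

theorem scan13_b : ∀ j < 4, allBlock (chkIScan actB qs tw asg13 3 kids13) 3510 1024 j = true := by
  intro j hj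
  interval_cases j <;> decide +kernel

theorem node13 : ∀ F, FreeInv setup F → IMatch qs F asg13 → False :=
  istep setup tw_lt (j := 3) (kids := kids13) (by decide +kernel)
    (of_blocks (size := 1024) (b := 4) (by decide) (by decide) scan13_b) fun k hk => by
    simp only [kids13, List.mem_cons, List.not_mem_nil, or_false] at hk
    rcases hk with rfl | rfl | rfl | rfl
    · exact node14
    · exact node15
    · exact node23
    · exact node24

theorem scan12_b : ∀ j < 4, allBlock (chkIScan actB qs tw asg12 8 kids12) 3510 1024 j = true := by
  intro j hj
  interval_cases j <;> decide +kernel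

theorem node12 : ∀ F, FreeInv setup F → IMatch qs F asg12 → False :=
  istep setup tw_lt (j := 8) (kids := kids12) (by decide +kernel)
    (of_blocks (size := 1024) (b := 4) (by decide) (by decide) scan12_b) fun k hk => by
    simp only [kids12, List.mem_cons, List.not_mem_nil, or_false] at hk
    rcases hk with rfl
    · exact node13

theorem scan11_b : ∀ j < 4, allBlock (chkIScan actB qs tw asg11 5 kids11) 3510 1024 j = true := by
  intro j hj
  interval_cases j <;> decide +kernel

theorem node11 : ∀ F, FreeInv setup F → IMatch qs F asg11 → False :=
  istep setup tw_lt (j := 5) (kids := kids11) (by decide +kernel)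
    (of_blocks (size := 1024) (b := 4) (by decide) (by decide) scan11_b) fun k hk => by
    simp only [kids11, List.mem_cons, List.not_mem_nil, or_false] at hk

theorem scan10_b : ∀ j < 4, allBlock (chkIScan actB qs tw asg10 5 kids10) 3510 1024 j = true := by
  intro j hj
  interval_cases j <;> decide +kernel

theorem node10 : ∀ F, FreeInv setup F → IMatch qs F asg10 → False :=
  istep setup tw_lt (j := 5) (kids := kids10) (by decide +kernel)
    (of_blocks (size := 1024) (b := 4) (by decide) (by decide) scan10_b) fun k hk => by
    simp only [kids10, List.mem_cons, List.not_mem_nil, or_false] at hk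

theorem scan9_b : ∀ j < 4, allBlock (chkIScan actB qs tw asg9 5 kids9) 3510 1024 j = true := by
  intro j hj
  interval_cases j <;> decide +kernel

theorem node9 : ∀ F, FreeInv setup F → IMatch qs F asg9 → False :=
  istep setup tw_lt (j := 5) (kids := kids9) (by decide +kernel)
    (of_blocks (size := 1024) (b := 4) (by decide) (by decide) scan9_b) fun k hk => by
    simp only [kids9, List.mem_cons, List.not_mem_nil, or_false] at hk

theorem scan8_b : ∀ j < 4, allBlock (chkIScan actB qs tw asg8 5 kids8) 3510 1024 j = true := by
  intro j hj
  interval_cases j <;> decide +kernel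

theorem node8 : ∀ F, FreeInv setup F → IMatch qs F asg8 → False :=
  istep setup tw_lt (j := 5) (kids := kids8) (by decide +kernel)
    (of_blocks (size := 1024) (b := 4) (by decide) (by decide) scan8_b) fun k hk => by
    simp only [kids8, List.mem_cons, List.not_mem_nil, or_false] at hk

theorem scan7_b : ∀ j < 4, allBlock (chkIScan actB qs tw asg7 5 kids7) 3510 1024 j = true := by
  intro j hj
  interval_cases j <;> decide +kernel

theorem node7 : ∀ F, FreeInv setup F → IMatch qs F asg7 → False :=
  istep setup tw_lt (j := 5) (kids := kids7) (by decide +kernel)
    (of_blocks (size := 1024) (b := 4) (by decide) (by decide) scan7_b) fun k hk => by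
    simp only [kids7, List.mem_cons, List.not_mem_nil, or_false] at hk

theorem scan6_b : ∀ j < 4, allBlock (chkIScan actB qs tw asg6 5 kids6) 3510 1024 j = true := by
  intro j hj
  interval_cases j <;> decide +kernel

theorem node6 : ∀ F, FreeInv setup F → IMatch qs F asg6 → False :=
  istep setup tw_lt (j := 5) (kids := kids6) (by decide +kernel)
    (of_blocks (size := 1024) (b := 4) (by decide) (by decide) scan6_b) fun k hk => by
    simp only [kids6, List.mem_cons, List.not_mem_nil, or_false] at hk

theorem scan5_b : ∀ j < 4, allBlock (chkIScan actB qs tw asg5 5 kids5) 3510 1024 j = true := by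
  intro j hj
  interval_cases j <;> decide +kernel

theorem node5 : ∀ F, FreeInv setup F → IMatch qs F asg5 → False :=
  istep setup tw_lt (j := 5) (kids := kids5) (by decide +kernel)
    (of_blocks (size := 1024) (b := 4) (by decide) (by decide) scan5_b) fun k hk => by
    simp only [kids5, List.mem_cons, List.not_mem_nil, or_false] at hk

theorem scan4_b : ∀ j < 4, allBlock (chkIScan actB qs tw asg4 3 kids4) 3510 1024 j = true := by
  intro j hj
  interval_cases j <;> decide +kernel

theorem node4 : ∀ F, FreeInv setup F → IMatch qs F asg4 → False :=
  istep setup tw_lt (j := 3) (kids := kids4) (by decide +kernel)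
    (of_blocks (size := 1024) (b := 4) (by decide) (by decide) scan4_b) fun k hk => by
    simp only [kids4, List.mem_cons, List.not_mem_nil, or_false] at hk
    rcases hk with rfl | rfl | rfl | rfl | rfl | rfl | rfl
    · exact node5
    · exact node6
    · exact node7
    · exact node8
    · exact node9
    · exact node10
    · exact node11

theorem scan3_b : ∀ j < 4, allBlock (chkIScan actB qs tw asg3 8 kids3) 3510 1024 j = true := by
  intro j hj
  interval_cases j <;> decide +kernel

theorem node3 : ∀ F, FreeInv setup F → IMatch qs F asg3 → False :=
  istep setup tw_lt (j := 8) (kids := kids3) (by decide +kernel)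
    (of_blocks (size := 1024) (b := 4) (by decide) (by decide) scan3_b) fun k hk => by
    simp only [kids3, List.mem_cons, List.not_mem_nil, or_false] at hk
    rcases hk with rfl
    · exact node4

theorem scan2_b : ∀ j < 4, allBlock (chkIScan actB qs tw asg2 8 kids2) 3510 1024 j = true := by
  intro j hj
  interval_cases j <;> decide +kernel

theorem node2 : ∀ F, FreeInv setup F → IMatch qs F asg2 → False :=
  istep setup tw_lt (j := 8) (kids := kids2) (by decide +kernel)
    (of_blocks (size := 1024) (b := 4) (by decide) (by decide) scan2_b) fun k hk => by
    simp only [kids2, List.mem_cons, List.not_mem_nil, or_false] at hk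

theorem scan1_b : ∀ j < 4, allBlock (chkIScan actB qs tw asg1 6 kids1) 3510 1024 j = true := by
  intro j hj
  interval_cases j <;> decide +kernel

theorem node1 : ∀ F, FreeInv setup F → IMatch qs F asg1 → False :=
  istep setup tw_lt (j := 6) (kids := kids1) (by decide +kernel)
    (of_blocks (size := 1024) (b := 4) (by decide) (by decide) scan1_b) fun k hk => by
    simp only [kids1, List.mem_cons, List.not_mem_nil, or_false] at hk
    rcases hk with rfl | rfl | rfl | rfl
    · exact node2
    · exact node3
    · exact node12
    · exact node25

theorem scan0_b : ∀ j < 4, allBlock (chkIScan actB qs tw asg0 0 kids0) 3510 1024 j = true := by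
  intro j hj
  interval_cases j <;> decide +kernel

theorem node0 : ∀ F, FreeInv setup F → IMatch qs F asg0 → False :=
  istep setup tw_lt (j := 0) (kids := kids0) (by decide +kernel)
    (of_blocks (size := 1024) (b := 4) (by decide) (by decide) scan0_b) fun k hk => by
    simp only [kids0, List.mem_cons, List.not_mem_nil, or_false] at hk
    rcases hk with rfl
    · exact node1

theorem no_free_inv (F : Fin actB.N → Fin actB.N) : ¬ FreeInv setup F := fun h =>
  node0 F h fun e he => by simp [asg0] at he

end Cfsg.Agent.Spor.Cos.Fi22Inv
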