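import Cfsg.Agent.Lib.Spor.Cos.Fi22Inv.Search

/-! The tree of maps of order two with no fixed point. -/

set_option autoImplicit false
set_option maxRecDepth 100000

namespace Cfsg.Agent.Spor.Cos.Fi22Inv

open InvSearch

/-- An assignment. -/
def asg0 : List (ℕ × IPt) := []

/-- A representative. -/
def kid0_0 : IKid := ⟨⟨7, [7, 4, 3, 1, 2, 0, 1]⟩, [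
  (7, []),
  (8, [2]),
  (9, [2, 4]),
  (10, [4, 2, 7]),
  (11, [4, 7]),
  (12, [7, 4, 3]),
  (20, [6, 4, 5, 2, 1, 3, 8, 2, 7, 0, 1, 3, 4, 7, 2, 3, 7, 4, 2, 1, 3, 2, 0, 1, 5]),
  (21, [2, 3, 1, 0, 2, 1, 5, 7, 3, 7, 0, 4, 3, 2, 0, 3, 1, 7, 0, 4, 3, 2, 1, 8, 3]),
  (22, [2, 3, 1, 0, 2, 1, 5, 7, 3, 7, 0, 4, 3, 2, 0, 3, 1, 7, 0, 4, 3, 2, 1, 8]),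
  (23, [7, 5, 6, 1, 2, 3, 0, 1, 2, 4, 8, 7, 3, 6, 2, 1, 4, 0, 7, 3, 2, 1, 4, 8, 3, 7, 2]),
  (24, [5, 1, 8, 2, 8, 1, 3, 0, 4, 7, 1, 2, 3, 2, 1, 0, 7, 3, 4, 3, 2, 1, 3, 8, 7]),
  (25, [5, 6, 1, 2, 3, 0, 1, 2, 4, 8, 7, 3, 6, 2, 1, 4, 0, 7, 3, 2, 1, 2, 7, 5, 3, 4]),
  (26, [2, 1, 3, 2, 8, 0, 3, 1, 2, 7, 5, 4, 3, 2, 0, 7, 4, 3, 5, 1, 2, 0, 1, 4, 7]),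
  (47, [2, 6, 1, 3, 2, 8, 0, 3, 1, 2, 7, 5, 4, 3, 2, 0, 7, 4, 3, 5, 1, 2, 0, 1]),
  (48, [6, 1, 3, 2, 8, 0, 3, 1, 2, 7, 5, 4, 3, 2, 0, 7, 4, 3, 5, 1, 2, 0, 1]),
  (49, [5, 6, 1, 2, 3, 0, 1, 2, 4, 8, 7, 3, 6, 2, 1, 4, 0, 7, 3, 2, 1, 3, 8, 7]),
  (50, [5, 6, 1, 2, 3, 0, 1, 2, 4, 8, 7, 3, 6, 2, 1, 4, 0, 7, 3, 2, 1, 3, 8, 2, 5, 7]),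
  (51, [5, 1, 2, 8, 3, 4, 0, 7, 3, 4, 6, 2, 1, 4, 3, 2, 7, 4, 0, 3, 7, 4, 3, 2, 1, 8, 3, 6]),
  (52, [4, 1, 2, 0, 8, 3, 4, 1, 2, 6, 3, 4, 7, 3, 8, 2, 4, 1, 3, 0, 8, 2, 1, 5, 4, 3, 2]),
  (53, [6, 1, 3, 2, 8, 0, 3, 1, 2, 7, 5, 4, 3, 2, 0, 7, 4, 3, 5, 1, 2, 0, 1, 3, 8, 7]),
  (54, [1, 2, 0, 4, 8, 1, 3, 4, 6, 2, 7, 3, 2, 1, 4, 0, 7, 3, 2, 1, 5, 4, 2, 8, 3]),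
  (65, [5]),
  (66, [2, 5]),
  (67, [7, 2]),
  (68, [7]),
  (69, [4]),
  (81, [2, 6, 1, 3, 0, 7, 2, 3, 7, 5, 6, 1, 4, 3, 2, 1, 3, 4, 7, 3, 7, 5, 2, 0, 1, 4]),
  (82, [8, 5, 1, 2, 0, 8, 3, 4, 1, 2, 6, 3, 4, 7, 3, 8, 2, 4, 1, 3, 0, 8, 2, 1, 5, 4]),
  (83, [7, 5, 6, 1, 3, 8, 2, 7, 0, 1, 3, 4, 7, 2, 3, 7, 4, 2, 1, 3, 2, 0, 1, 5]),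
  (84, [3, 5, 1, 0, 1, 2, 1, 3, 4, 2, 3, 7, 1, 3, 4, 2, 1, 6, 3, 0, 2, 1, 4]),
  (85, [1, 6, 8, 2, 0, 5, 3, 8, 1, 7, 2, 4, 3, 4, 7, 2, 1, 3, 2, 0, 1]),
  (86, [5, 6, 1, 4, 7, 2, 3, 4, 0, 5, 7, 5, 1, 2, 3, 6, 2, 1, 4, 0, 7, 3, 2, 1]),
  (87, [5, 8, 2, 1, 3, 8, 2, 7, 0, 1, 3, 4, 7, 2, 3, 7, 4, 2, 1, 3, 2, 0, 1]),
  (88, [1, 0, 2, 1, 5, 7, 3, 7, 0, 4, 3, 2, 0, 3, 1, 7, 0, 4, 3, 2, 1, 2, 4, 3]),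
  (89, [2, 7, 5, 3, 4, 5, 6, 1, 2, 3, 0, 1, 2, 4, 8, 7, 3, 6, 2, 1, 4, 0, 7, 3, 2, 1]),
  (90, [4, 5, 6, 2, 1, 3, 8, 2, 7, 0, 1, 3, 4, 7, 2, 3, 7, 4, 2, 1, 3, 2, 0, 1, 4, 8]),
  (96, [3, 5, 4]),
  (97, [5, 3]),
  (98, [3]),
  (108, [4, 2, 6, 1, 3, 2, 8, 0, 3, 1, 2, 7, 5, 4, 3, 2, 0, 7, 4, 3, 5, 1, 2, 0, 1]),
  (109, [2, 1, 2, 0, 4, 8, 1, 3, 4, 6, 2, 7, 3, 2, 1, 4, 0, 7, 3, 2, 1, 5, 8]),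
  (110, [1, 2, 0, 4, 8, 1, 3, 4, 6, 2, 7, 3, 2, 1, 4, 0, 7, 3, 2, 1, 2, 5, 8, 4, 7]),
  (111, [2, 3, 1, 2, 0, 8, 3, 4, 1, 2, 6, 3, 4, 7, 3, 8, 2, 4, 1, 3, 0, 8, 2, 1, 5, 4]),
  (112, [5, 6, 1, 2, 3, 0, 1, 2, 4, 8, 7, 3, 6, 2, 1, 4, 0, 7, 3, 2, 1, 2, 4, 8, 3, 7]),
  (113, [5, 6, 1, 2, 3, 0, 1, 2, 4, 8, 7, 3, 6, 2, 1, 4, 0, 7, 3, 2, 1, 2, 8]),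
  (114, [5, 6, 1, 2, 3, 0, 1, 2, 4, 8, 7, 3, 6, 2, 1, 4, 0, 7, 3, 2, 1, 2]),
  (115, [5, 6, 1, 2, 3, 0, 1, 2, 4, 8, 7, 3, 6, 2, 1, 4, 0, 7, 3, 2, 1]),
  (122, [3, 5, 6, 1, 2, 3, 0, 1, 2, 4, 8, 7, 3, 6, 2, 1, 4, 0, 7, 3, 2, 1, 5, 4, 3]),
  (123, [3, 5, 6, 1, 2, 3, 0, 1, 2, 4, 8, 7, 3, 6, 2, 1, 4, 0, 7, 3, 2, 1]),
  (124, [5, 6, 1, 2, 3, 0, 1, 2, 4, 8, 7, 3, 6, 2, 1, 4, 0, 7, 3, 2, 1, 3, 8, 3]),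
  (125, [5, 6, 1, 2, 3, 0, 1, 2, 4, 8, 7, 3, 6, 2, 1, 4, 0, 7, 3, 2, 1, 3, 8]),
  (131, [8, 3, 1, 0, 2, 1, 5, 7, 3, 7, 0, 4, 3, 2, 0, 3, 1, 7, 0, 4, 3, 2, 1, 2, 4, 3]),
  (132, [3, 5, 4, 2, 1, 3, 8, 2, 7, 0, 1, 3, 4, 7, 2, 3, 7, 4, 2, 1, 3, 2, 0, 1]),
  (133, [8, 3, 1, 0, 2, 1, 5, 7, 3, 7, 0, 4, 3, 2, 0, 3, 1, 7, 0, 4, 3, 2, 1]),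
  (134, [3, 5, 6, 1, 2, 3, 0, 1, 2, 4, 8, 7, 3, 6, 2, 1, 4, 0, 7, 3, 2, 1, 5, 7]),
  (135, [1, 8, 5, 2, 3, 4, 6, 7, 8, 0, 3, 2, 6, 1, 2, 0, 8, 3, 7, 4, 3, 4, 2, 1, 8, 3, 5]),
  (136, [5, 6, 1, 2, 3, 0, 1, 2, 4, 8, 7, 3, 6, 2, 1, 4, 0, 7, 3, 2, 1, 3, 8, 3, 5]),
  (137, [5, 6, 1, 2, 3, 0, 1, 2, 4, 8, 7, 3, 6, 2, 1, 4, 0, 7, 3, 2, 1, 2, 5, 8]),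
  (143, [5, 7]),
  (148, [5, 1, 8, 2, 8, 1, 3, 0, 4, 7, 1, 2, 3, 2, 1, 0, 7, 3, 4, 3, 2, 1]),
  (149, [2, 5, 7]),
  (151, [3, 1, 0, 2, 1, 5, 7, 3, 7, 0, 4, 3, 2, 0, 3, 1, 7, 0, 4, 3, 2, 1]),
  (152, [3, 5, 1, 8, 2, 8, 1, 3, 0, 4, 7, 1, 2, 3, 2, 1, 0, 7, 3, 4, 3, 2, 1]),
  (153, [3, 5, 1, 8, 2, 8, 1, 3, 0, 4, 7, 1, 2, 3, 2, 1, 0, 7, 3, 4, 3, 2, 1, 5]),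
  (154, [2, 7, 3]),
  (155, [2, 5, 7, 3]),
  (159, [2, 8, 5, 1, 2, 0, 4, 8, 1, 3, 4, 6, 2, 7, 3, 2, 1, 4, 0, 7, 3, 2, 1, 5]),
  (160, [5, 1, 0, 1, 2, 1, 3, 4, 2, 3, 7, 1, 3, 4, 2, 1, 6, 3, 0, 2, 1, 5, 2]),
  (161, [7, 1, 7, 5, 2, 3, 4, 0, 2, 1, 2, 7, 3, 6, 2, 1, 4, 0, 7, 3, 2, 1]),
  (162, [7, 5, 1, 2, 0, 4, 8, 1, 3, 4, 6, 2, 7, 3, 2, 1, 4, 0, 7, 3, 2, 1]),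
  (163, [7, 5, 1, 2, 0, 4, 8, 1, 3, 4, 6, 2, 7, 3, 2, 1, 4, 0, 7, 3, 2, 1, 2]),
  (164, [2, 1, 7, 5, 2, 3, 4, 0, 2, 1, 2, 7, 3, 6, 2, 1, 4, 0, 7, 3, 2, 1]),
  (165, [7, 2, 5, 1, 0, 1, 2, 1, 3, 4, 2, 3, 7, 1, 3, 4, 2, 1, 6, 3, 0, 2, 1, 4]),
  (183, [5, 6, 1, 2, 3, 0, 1, 2, 4, 8, 7, 3, 6, 2, 1, 4, 0, 7, 3, 2, 1, 3, 8, 3, 5, 4]),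
  (184, [5, 6, 1, 2, 3, 0, 1, 2, 4, 8, 7, 3, 6, 2, 1, 4, 0, 7, 3, 2, 1, 3, 8, 3, 5, 4, 3]),
  (185, [5, 6, 5, 1, 2, 0, 4, 8, 1, 3, 4, 6, 2, 7, 3, 2, 1, 4, 0, 7, 3, 2, 1, 5, 7, 4, 3]),
  (186, [5, 6, 1, 2, 3, 0, 1, 2, 4, 8, 7, 3, 6, 2, 1, 4, 0, 7, 3, 2, 1, 2, 8, 3, 5, 4]),
  (187, [1, 2, 0, 8, 3, 4, 1, 2, 6, 3, 4, 7, 3, 8, 2, 4, 1, 3, 0, 8, 2, 1, 5, 4]),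
  (188, [1, 2, 0, 8, 3, 4, 1, 2, 6, 3, 4, 7, 3, 8, 2, 4, 1, 3, 0, 8, 2, 1, 5, 4, 3]),
  (189, [1, 2, 0, 8, 3, 4, 1, 2, 6, 3, 4, 7, 3, 8, 2, 4, 1, 3, 0, 8, 2, 1, 5, 4, 3, 4]),
  (190, [1, 8, 2, 3, 0, 1, 6, 7, 2, 4, 3, 6, 2, 1, 4, 0, 7, 3, 2, 1, 5, 3, 4, 8]),
  (191, [5, 1, 3, 2, 8, 0, 3, 1, 2, 7, 5, 4, 3, 2, 0, 7, 4, 3, 5, 1, 2, 0, 1, 4, 7]),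
  (194, [2, 1, 7, 5, 2, 3, 4, 0, 2, 1, 2, 7, 3, 6, 2, 1, 4, 0, 7, 3, 2, 1, 5]),
  (195, [7, 5, 1, 2, 0, 4, 8, 1, 3, 4, 6, 2, 7, 3, 2, 1, 4, 0, 7, 3, 2, 1, 2, 5]),
  (196, [7, 5, 1, 2, 0, 4, 8, 1, 3, 4, 6, 2, 7, 3, 2, 1, 4, 0, 7, 3, 2, 1, 2, 5, 8, 4, 8]),
  (198, [7, 5, 1, 2, 0, 4, 8, 1, 3, 4, 6, 2, 7, 3, 2, 1, 4, 0, 7, 3, 2, 1, 2, 5, 7, 4, 3]),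
  (199, [5, 1, 8, 2, 8, 1, 3, 0, 4, 7, 1, 2, 3, 2, 1, 0, 7, 3, 4, 3, 2, 1, 6]),
  (200, [8]),
  (207, [8, 3, 5]),
  (208, [5, 8]),
  (209, [3, 8]),
  (210, [3, 8, 7]),
  (213, [5, 3, 4, 8]),
  (215, [2, 7, 5, 3, 4]),
  (217, [5, 6]),
  (218, [5, 6, 2]),
  (220, [5, 3, 6]),
  (221, [2, 8]),
  (222, [4, 8]),
  (243, [2, 4, 3]),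
  (244, [4, 8, 2]),
  (245, [8, 5, 2]),
  (251, [5, 6, 7, 2, 3, 4]),
  (252, [5, 2, 6, 7, 3]),
  (253, [4, 2, 8, 3]),
  (254, [5, 6, 7]),
  (255, [7, 5, 6, 2]),
  (256, [5, 2, 7, 3, 6, 4, 5]),
  (257, [5, 8, 3, 7]),
  (274, [3, 5, 6, 4, 5]),
  (275, [5, 6, 3, 4]),
  (284, [5, 3, 4, 8, 7]),
  (285, [8, 3, 5, 7, 4, 3]),
  (286, [4, 2, 1, 3, 8, 2, 7, 0, 1, 3, 4, 7, 2, 3, 7, 4, 2, 1, 3, 2, 0, 1, 4]),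
  (287, [2, 1, 2, 0, 4, 8, 1, 3, 4, 6, 2, 7, 3, 2, 1, 4, 0, 7, 3, 2, 1, 2, 5]),
  (288, [4, 1, 2, 0, 8, 3, 4, 1, 2, 6, 3, 4, 7, 3, 8, 2, 4, 1, 3, 0, 8, 2, 1, 5, 4]),
  (289, [4, 1, 2, 0, 8, 3, 4, 1, 2, 6, 3, 4, 7, 3, 8, 2, 4, 1, 3, 0, 8, 2, 1, 5, 4, 3, 5, 7]),
  (290, [5, 3, 4, 8, 7, 5, 1, 3, 2, 8, 0, 3, 1, 2, 7, 5, 4, 3, 2, 0, 7, 4, 3, 5, 1, 2, 0, 1]),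
  (291, [3, 5, 6, 1, 2, 3, 0, 1, 2, 4, 8, 7, 3, 6, 2, 1, 4, 0, 7, 3, 2, 1, 5, 4, 3, 8]),
  (295, [1, 2, 0, 8, 3, 4, 1, 2, 6, 3, 4, 7, 3, 8, 2, 4, 1, 3, 0, 8, 2, 1, 5, 4, 3, 2]),
  (296, [5, 6, 1, 2, 3, 0, 1, 2, 4, 8, 7, 3, 6, 2, 1, 4, 0, 7, 3, 2, 1, 2, 4, 8, 3, 7, 2]),
  (312, [5, 1, 8, 2, 8, 1, 3, 0, 4, 7, 1, 2, 3, 2, 1, 0, 7, 3, 4, 3, 2, 1, 5, 8]),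
  (313, [1, 2, 5, 7, 3, 0, 4, 1, 7, 2, 5, 3, 2, 5, 7, 4, 3, 7, 1, 2, 0, 1, 4, 8]),
  (314, [1, 2, 8, 3, 4, 0, 7, 3, 4, 6, 2, 1, 4, 3, 2, 7, 4, 0, 3, 7, 4, 3, 2, 1, 5]),
  (315, [3, 8, 7, 2, 1, 2, 0, 4, 8, 1, 3, 4, 6, 2, 7, 3, 2, 1, 4, 0, 7, 3, 2, 1]),
  (316, [8, 1, 2, 3, 0, 7, 4, 1, 5, 2, 1, 5, 3, 6, 2, 1, 4, 0, 7, 3, 2, 1]),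
  (317, [1, 8, 2, 3, 0, 1, 6, 7, 2, 4, 3, 6, 2, 1, 4, 0, 7, 3, 2, 1]),
  (318, [2, 1, 3, 8, 2, 7, 0, 1, 3, 4, 7, 2, 3, 7, 4, 2, 1, 3, 2, 0, 1]),
  (323, [5, 6, 1, 2, 3, 0, 1, 2, 4, 8, 7, 3, 6, 2, 1, 4, 0, 7, 3, 2, 1, 5, 7, 4, 3, 2]),
  (337, [5, 1, 2, 0, 4, 8, 1, 3, 4, 6, 2, 7, 3, 2, 1, 4, 0, 7, 3, 2, 1, 4, 8, 5, 2]),
  (338, [5, 1, 2, 0, 4, 8, 1, 3, 4, 6, 2, 7, 3, 2, 1, 4, 0, 7, 3, 2, 1, 4, 8, 5]),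
  (339, [5, 3, 1, 2, 0, 8, 3, 4, 1, 2, 6, 3, 4, 7, 3, 8, 2, 4, 1, 3, 0, 8, 2, 1, 5, 8]),
  (340, [3, 5, 1, 2, 0, 4, 8, 1, 3, 4, 6, 2, 7, 3, 2, 1, 4, 0, 7, 3, 2, 1, 4, 8, 5, 4]),
  (341, [3, 5, 1, 2, 0, 4, 8, 1, 3, 4, 6, 2, 7, 3, 2, 1, 4, 0, 7, 3, 2, 1, 5, 4, 8]),
  (342, [5, 3, 1, 2, 0, 8, 3, 4, 1, 2, 6, 3, 4, 7, 3, 8, 2, 4, 1, 3, 0, 8, 2, 1, 5, 4, 7]),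
  (343, [5, 1, 2, 0, 4, 8, 1, 3, 4, 6, 2, 7, 3, 2, 1, 4, 0, 7, 3, 2, 1, 3, 5, 4]),
  (362, [4, 1, 2, 0, 8, 3, 4, 1, 2, 6, 3, 4, 7, 3, 8, 2, 4, 1, 3, 0, 8, 2, 1, 5, 4, 3]),
  (363, [2, 1, 2, 0, 4, 8, 1, 3, 4, 6, 2, 7, 3, 2, 1, 4, 0, 7, 3, 2, 1, 2]),
  (364, [2, 1, 2, 0, 4, 8, 1, 3, 4, 6, 2, 7, 3, 2, 1, 4, 0, 7, 3, 2, 1]),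
  (365, [4, 2, 1, 3, 8, 2, 7, 0, 1, 3, 4, 7, 2, 3, 7, 4, 2, 1, 3, 2, 0, 1, 4, 7]),
  (366, [2, 1, 2, 0, 4, 8, 1, 3, 4, 6, 2, 7, 3, 2, 1, 4, 0, 7, 3, 2, 1, 5, 3, 6]),
  (367, [4, 2, 1, 3, 8, 2, 7, 0, 1, 3, 4, 7, 2, 3, 7, 4, 2, 1, 3, 2, 0, 1, 5, 6]),
  (379, [3, 5, 4, 2, 1, 3, 8, 2, 7, 0, 1, 3, 4, 7, 2, 3, 7, 4, 2, 1, 3, 2, 0, 1, 5]),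
  (382, [1, 2, 0, 8, 3, 4, 1, 2, 6, 3, 4, 7, 3, 8, 2, 4, 1, 3, 0, 8, 2, 1, 5, 4, 3, 4, 7, 8]),
  (383, [7, 5, 6, 1, 2, 3, 0, 1, 2, 4, 8, 7, 3, 6, 2, 1, 4, 0, 7, 3, 2, 1, 4, 8, 3, 7]),
  (384, [5, 6, 1, 4, 7, 2, 3, 4, 0, 5, 7, 5, 1, 2, 3, 6, 2, 1, 4, 0, 7, 3, 2, 1, 8]),
  (385, [3, 5, 1, 2, 0, 4, 8, 1, 3, 4, 6, 2, 7, 3, 2, 1, 4, 0, 7, 3, 2, 1, 3, 6]),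
  (389, [2, 1, 2, 0, 4, 8, 1, 3, 4, 6, 2, 7, 3, 2, 1, 4, 0, 7, 3, 2, 1, 5, 6, 3, 4]),
  (390, [2, 1, 7, 5, 2, 3, 4, 0, 2, 1, 2, 7, 3, 6, 2, 1, 4, 0, 7, 3, 2, 1, 8, 7, 3]),
  (391, [5, 1, 2, 0, 4, 8, 1, 3, 4, 6, 2, 7, 3, 2, 1, 4, 0, 7, 3, 2, 1, 2, 8, 5, 6, 5, 7]),
  (392, [5, 1, 2, 0, 4, 8, 1, 3, 4, 6, 2, 7, 3, 2, 1, 4, 0, 7, 3, 2, 1, 8, 5, 6, 7, 2]),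
  (393, [5, 1, 2, 0, 4, 8, 1, 3, 4, 6, 2, 7, 3, 2, 1, 4, 0, 7, 3, 2, 1, 4, 8, 5, 2, 7]),
  (416, [5, 1, 2, 0, 8, 3, 4, 1, 2, 6, 3, 4, 7, 3, 8, 2, 4, 1, 3, 0, 8, 2, 1, 5, 6, 4, 5, 3, 2, 8]),
  (417, [5, 1, 2, 0, 8, 3, 4, 1, 2, 6, 3, 4, 7, 3, 8, 2, 4, 1, 3, 0, 8, 2, 1, 5, 4, 8, 6, 5, 3]),
  (418, [5, 1, 2, 0, 8, 3, 4, 1, 2, 6, 3, 4, 7, 3, 8, 2, 4, 1, 3, 0, 8, 2, 1, 5, 6, 4, 5, 8]),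
  (419, [7, 5, 1, 2, 0, 4, 8, 1, 3, 4, 6, 2, 7, 3, 2, 1, 4, 0, 7, 3, 2, 1, 2, 8, 7, 3, 2, 5]),
  (420, [5, 3, 2, 1, 3, 8, 2, 7, 0, 1, 3, 4, 7, 2, 3, 7, 4, 2, 1, 3, 2, 0, 1, 5, 6, 7, 4, 8]),
  (421, [6, 1, 3, 2, 8, 0, 3, 1, 2, 7, 5, 4, 3, 2, 0, 7, 4, 3, 5, 1, 2, 0, 1, 3, 8, 7, 4]),
  (428, [2, 1, 3, 8, 2, 7, 0, 1, 3, 4, 7, 2, 3, 7, 4, 2, 1, 3, 2, 0, 1, 5]),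
  (429, [1, 2, 0, 8, 3, 4, 1, 2, 6, 3, 4, 7, 3, 8, 2, 4, 1, 3, 0, 8, 2, 1, 5]),
  (430, [5, 1, 3, 2, 8, 0, 3, 1, 2, 7, 5, 4, 3, 2, 0, 7, 4, 3, 5, 1, 2, 0, 1]),
  (440, [8, 5, 3, 6, 7, 4, 3, 2, 1, 2, 0, 4, 8, 1, 3, 4, 6, 2, 7, 3, 2, 1, 4, 0, 7, 3, 2, 1]),
  (441, [7, 5, 1, 2, 0, 4, 8, 1, 3, 4, 6, 2, 7, 3, 2, 1, 4, 0, 7, 3, 2, 1, 2, 3, 8]),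
  (456, [5, 1, 2, 0, 8, 3, 4, 1, 2, 6, 3, 4, 7, 3, 8, 2, 4, 1, 3, 0, 8, 2, 1, 5, 4, 3, 7, 4, 3]),
  (457, [5, 4, 6, 1, 3, 2, 8, 0, 3, 1, 2, 7, 5, 4, 3, 2, 0, 7, 4, 3, 5, 1, 2, 0, 1, 7, 4, 3, 4, 2, 7]),
  (458, [5, 4, 6, 1, 3, 2, 8, 0, 3, 1, 2, 7, 5, 4, 3, 2, 0, 7, 4, 3, 5, 1, 2, 0, 1, 7, 4, 3, 2, 7, 3]),
  (459, [5, 3, 8, 4, 6, 7, 5, 3, 1, 2, 0, 4, 8, 1, 3, 4, 6, 2, 7, 3, 2, 1, 4, 0, 7, 3, 2, 1, 5]),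
  (460, [5, 3, 8, 4, 6, 7, 5, 3, 1, 2, 0, 4, 8, 1, 3, 4, 6, 2, 7, 3, 2, 1, 4, 0, 7, 3, 2, 1]),
  (477, [5, 6, 1, 2, 3, 0, 1, 2, 4, 8, 7, 3, 6, 2, 1, 4, 0, 7, 3, 2, 1, 2, 5, 8, 7, 4, 3]),
  (482, [2, 1, 3, 8, 2, 7, 0, 1, 3, 4, 7, 2, 3, 7, 4, 2, 1, 3, 2, 0, 1, 5, 6, 7, 4, 5]),
  (483, [1, 2, 0, 8, 3, 4, 1, 2, 6, 3, 4, 7, 3, 8, 2, 4, 1, 3, 0, 8, 2, 1, 5, 6, 4, 5]),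
  (484, [1, 2, 0, 8, 3, 4, 1, 2, 6, 3, 4, 7, 3, 8, 2, 4, 1, 3, 0, 8, 2, 1, 5, 6, 4, 5, 3]),
  (485, [1, 2, 0, 8, 3, 4, 1, 2, 6, 3, 4, 7, 3, 8, 2, 4, 1, 3, 0, 8, 2, 1, 5, 6, 4, 5, 3, 4]),
  (486, [3, 1, 2, 0, 8, 3, 4, 1, 2, 6, 3, 4, 7, 3, 8, 2, 4, 1, 3, 0, 8, 2, 1, 5, 6, 4, 5, 3, 4]),
  (487, [7, 5, 1, 2, 0, 4, 8, 1, 3, 4, 6, 2, 7, 3, 2, 1, 4, 0, 7, 3, 2, 1, 4, 8, 5, 7, 3, 4, 8]),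
  (488, [5, 1, 2, 8, 3, 4, 0, 7, 3, 4, 6, 2, 1, 4, 3, 2, 7, 4, 0, 3, 7, 4, 3, 2, 1, 5, 3, 8, 4, 6, 5]),
  (489, [5, 1, 2, 0, 8, 3, 4, 1, 2, 6, 3, 4, 7, 3, 8, 2, 4, 1, 3, 0, 8, 2, 1, 5, 6, 4, 5, 3, 4]),
  (490, [5, 1, 2, 0, 8, 3, 4, 1, 2, 6, 3, 4, 7, 3, 8, 2, 4, 1, 3, 0, 8, 2, 1, 5, 6, 4, 5, 3]),
  (491, [5, 1, 2, 0, 8, 3, 4, 1, 2, 6, 3, 4, 7, 3, 8, 2, 4, 1, 3, 0, 8, 2, 1, 5, 4, 5, 3, 6]),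
  (492, [5, 1, 2, 0, 4, 8, 1, 3, 4, 6, 2, 7, 3, 2, 1, 4, 0, 7, 3, 2, 1, 5, 7, 4, 3]),
  (493, [5, 1, 2, 0, 8, 3, 4, 1, 2, 6, 3, 4, 7, 3, 8, 2, 4, 1, 3, 0, 8, 2, 1, 5, 4, 3, 4, 7, 4]),
  (509, [3, 5, 6, 1, 2, 3, 0, 1, 2, 4, 8, 7, 3, 6, 2, 1, 4, 0, 7, 3, 2, 1, 5, 3, 8, 4, 6, 7]),
  (510, [7, 5, 1, 2, 0, 4, 8, 1, 3, 4, 6, 2, 7, 3, 2, 1, 4, 0, 7, 3, 2, 1, 2, 8]),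
  (511, [2, 6, 1, 3, 2, 8, 0, 3, 1, 2, 7, 5, 4, 3, 2, 0, 7, 4, 3, 5, 1, 2, 0, 1, 4, 8, 2, 7]),
  (512, [2, 1, 7, 5, 2, 3, 4, 0, 2, 1, 2, 7, 3, 6, 2, 1, 4, 0, 7, 3, 2, 1, 8, 5, 2]),
  (513, [8, 5, 1, 3, 8, 2, 7, 0, 1, 3, 4, 7, 2, 3, 7, 4, 2, 1, 3, 2, 0, 1, 8, 3, 5, 7, 4]),
  (517, [1, 2, 0, 8, 3, 4, 1, 2, 6, 3, 4, 7, 3, 8, 2, 4, 1, 3, 0, 8, 2, 1, 5, 4, 3, 4, 2]),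
  (521, [2, 1, 3, 8, 2, 7, 0, 1, 3, 4, 7, 2, 3, 7, 4, 2, 1, 3, 2, 0, 1, 5, 6]),
  (522, [3, 2, 1, 3, 8, 2, 7, 0, 1, 3, 4, 7, 2, 3, 7, 4, 2, 1, 3, 2, 0, 1, 5, 6]),
  (523, [1, 8, 2, 3, 0, 1, 6, 7, 2, 4, 3, 6, 2, 1, 4, 0, 7, 3, 2, 1, 8, 5, 3, 6]),
  (524, [8, 5, 1, 2, 0, 4, 8, 1, 3, 4, 6, 2, 7, 3, 2, 1, 4, 0, 7, 3, 2, 1, 3, 8, 7]),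
  (525, [5, 1, 0, 1, 2, 1, 3, 4, 2, 3, 7, 1, 3, 4, 2, 1, 6, 3, 0, 2, 1, 8, 2, 5, 7]),
  (526, [3, 5, 1, 0, 1, 2, 1, 3, 4, 2, 3, 7, 1, 3, 4, 2, 1, 6, 3, 0, 2, 1, 4, 8, 3, 5]),
  (527, [3, 5, 1, 0, 1, 2, 1, 3, 4, 2, 3, 7, 1, 3, 4, 2, 1, 6, 3, 0, 2, 1, 4, 5, 8]),
  (528, [8, 5, 1, 2, 0, 8, 3, 4, 1, 2, 6, 3, 4, 7, 3, 8, 2, 4, 1, 3, 0, 8, 2, 1, 5, 4, 8]),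
  (529, [1, 2, 3, 5, 4, 0, 1, 2, 7, 3, 4, 2, 7, 0, 3, 5, 4, 6, 0, 4, 5, 1, 2, 0, 1, 8, 4, 7]),
  (530, [2, 1, 2, 3, 5, 4, 0, 1, 2, 7, 3, 4, 2, 7, 0, 3, 5, 4, 6, 0, 4, 5, 1, 2, 0, 1, 8, 4, 7]),
  (531, [7, 5, 1, 2, 0, 4, 8, 1, 3, 4, 6, 2, 7, 3, 2, 1, 4, 0, 7, 3, 2, 1, 2, 5, 8, 4, 7, 3, 8]),
  (532, [2, 5, 1, 2, 0, 8, 3, 4, 1, 2, 6, 3, 4, 7, 3, 8, 2, 4, 1, 3, 0, 8, 2, 1, 5, 6, 4, 5, 3]),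
  (533, [2, 5, 1, 2, 0, 8, 3, 4, 1, 2, 6, 3, 4, 7, 3, 8, 2, 4, 1, 3, 0, 8, 2, 1, 5, 6, 4, 3]),
  (534, [2, 5, 1, 2, 0, 8, 3, 4, 1, 2, 6, 3, 4, 7, 3, 8, 2, 4, 1, 3, 0, 8, 2, 1, 5, 4, 3]),
  (535, [2, 5, 1, 2, 0, 8, 3, 4, 1, 2, 6, 3, 4, 7, 3, 8, 2, 4, 1, 3, 0, 8, 2, 1, 5, 4, 3, 4, 7]),
  (548, [7, 5, 1, 2, 0, 4, 8, 1, 3, 4, 6, 2, 7, 3, 2, 1, 4, 0, 7, 3, 2, 1, 2, 8, 7, 3, 2, 5, 7]),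
  (549, [7, 5, 1, 2, 0, 4, 8, 1, 3, 4, 6, 2, 7, 3, 2, 1, 4, 0, 7, 3, 2, 1, 2, 3, 8, 7, 5, 3]),
  (550, [7, 5, 1, 2, 0, 4, 8, 1, 3, 4, 6, 2, 7, 3, 2, 1, 4, 0, 7, 3, 2, 1, 2, 8, 3, 5, 7]),
  (552, [7, 5, 1, 2, 0, 4, 8, 1, 3, 4, 6, 2, 7, 3, 2, 1, 4, 0, 7, 3, 2, 1, 4, 8]),
  (553, [7, 5, 1, 2, 0, 4, 8, 1, 3, 4, 6, 2, 7, 3, 2, 1, 4, 0, 7, 3, 2, 1, 2, 5, 8]),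
  (554, [7, 5, 1, 2, 0, 4, 8, 1, 3, 4, 6, 2, 7, 3, 2, 1, 4, 0, 7, 3, 2, 1, 2, 8, 7]),
  (555, [5, 6, 1, 2, 3, 0, 1, 2, 4, 8, 7, 3, 6, 2, 1, 4, 0, 7, 3, 2, 1, 2, 5]),
  (559, [2, 1, 2, 0, 8, 3, 4, 1, 2, 6, 3, 4, 7, 3, 8, 2, 4, 1, 3, 0, 8, 2, 1, 5, 6, 4, 5, 6]),
  (560, [1, 2, 0, 8, 3, 4, 1, 2, 6, 3, 4, 7, 3, 8, 2, 4, 1, 3, 0, 8, 2, 1, 5, 6, 4, 5, 6]),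
  (561, [1, 2, 0, 8, 3, 4, 1, 2, 6, 3, 4, 7, 3, 8, 2, 4, 1, 3, 0, 8, 2, 1, 5, 6, 4, 5, 6, 3]),
  (562, [4, 3, 1, 2, 0, 8, 3, 4, 1, 2, 6, 3, 4, 7, 3, 8, 2, 4, 1, 3, 0, 8, 2, 1, 5, 6, 4, 5, 3, 4]),
  (563, [1, 2, 0, 8, 3, 4, 1, 2, 6, 3, 4, 7, 3, 8, 2, 4, 1, 3, 0, 8, 2, 1, 5, 6, 4, 5, 3, 4, 7]),
  (564, [5, 1, 2, 8, 3, 4, 0, 7, 3, 4, 6, 2, 1, 4, 3, 2, 7, 4, 0, 3, 7, 4, 3, 2, 1, 5, 3, 8, 4, 6]),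
  (565, [5, 3, 1, 2, 0, 8, 3, 4, 1, 2, 6, 3, 4, 7, 3, 8, 2, 4, 1, 3, 0, 8, 2, 1, 5, 6, 4, 5, 3, 4]),
  (566, [5, 3, 1, 2, 0, 8, 3, 4, 1, 2, 6, 3, 4, 7, 3, 8, 2, 4, 1, 3, 0, 8, 2, 1, 5, 6, 4, 5, 3]),
  (567, [5, 3, 1, 2, 0, 8, 3, 4, 1, 2, 6, 3, 4, 7, 3, 8, 2, 4, 1, 3, 0, 8, 2, 1, 5, 6, 4, 3]),
  (568, [7, 5, 7, 1, 2, 0, 8, 3, 4, 1, 2, 6, 3, 4, 7, 3, 8, 2, 4, 1, 3, 0, 8, 2, 1, 5, 4, 3, 4]),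
  (569, [5, 1, 2, 0, 8, 3, 4, 1, 2, 6, 3, 4, 7, 3, 8, 2, 4, 1, 3, 0, 8, 2, 1, 5, 4, 3, 4, 7]),
  (586, [2, 1, 7, 5, 2, 3, 4, 0, 2, 1, 2, 7, 3, 6, 2, 1, 4, 0, 7, 3, 2, 1, 5, 3, 4, 8, 7, 6, 3, 2]),
  (587, [7, 5, 1, 2, 0, 4, 8, 1, 3, 4, 6, 2, 7, 3, 2, 1, 4, 0, 7, 3, 2, 1, 2, 5, 8, 4, 7, 5, 3, 6]),
  (588, [7, 5, 1, 2, 0, 4, 8, 1, 3, 4, 6, 2, 7, 3, 2, 1, 4, 0, 7, 3, 2, 1, 2, 5, 8, 4, 7]),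
  (589, [2, 7, 5, 1, 2, 0, 4, 8, 1, 3, 4, 6, 2, 7, 3, 2, 1, 4, 0, 7, 3, 2, 1, 4, 8, 5, 7]),
  (591, [7, 8, 5, 1, 2, 0, 4, 8, 1, 3, 4, 6, 2, 7, 3, 2, 1, 4, 0, 7, 3, 2, 1, 3, 8, 7]),
  (592, [7, 5, 1, 2, 0, 4, 8, 1, 3, 4, 6, 2, 7, 3, 2, 1, 4, 0, 7, 3, 2, 1, 2, 8, 7, 3]),
  (593, [7, 5, 1, 2, 0, 4, 8, 1, 3, 4, 6, 2, 7, 3, 2, 1, 4, 0, 7, 3, 2, 1, 2, 8, 7, 8]),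
  (595, [8, 3, 1, 0, 2, 1, 5, 7, 3, 7, 0, 4, 3, 2, 0, 3, 1, 7, 0, 4, 3, 2, 1, 8]),
  (599, [2, 1, 3, 8, 2, 7, 0, 1, 3, 4, 7, 2, 3, 7, 4, 2, 1, 3, 2, 0, 1, 5, 6, 7, 4, 3]),
  (600, [5, 1, 2, 0, 4, 8, 1, 3, 4, 6, 2, 7, 3, 2, 1, 4, 0, 7, 3, 2, 1, 2, 8, 7, 2]),
  (601, [5, 1, 2, 0, 4, 8, 1, 3, 4, 6, 2, 7, 3, 2, 1, 4, 0, 7, 3, 2, 1, 4, 8, 5, 7, 5, 3]),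
  (602, [7, 2, 7, 5, 1, 2, 0, 4, 8, 1, 3, 4, 6, 2, 7, 3, 2, 1, 4, 0, 7, 3, 2, 1, 2, 8, 7, 3, 4]),
  (603, [7, 5, 1, 2, 0, 4, 8, 1, 3, 4, 6, 2, 7, 3, 2, 1, 4, 0, 7, 3, 2, 1, 5, 7, 8, 7, 3, 7, 2]),
  (604, [7, 5, 1, 2, 0, 4, 8, 1, 3, 4, 6, 2, 7, 3, 2, 1, 4, 0, 7, 3, 2, 1, 5, 7, 8, 7, 3, 2]),
  (610, [5, 1, 2, 0, 8, 3, 4, 1, 2, 6, 3, 4, 7, 3, 8, 2, 4, 1, 3, 0, 8, 2, 1, 5, 4]),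
  (611, [5, 1, 2, 0, 4, 8, 1, 3, 4, 6, 2, 7, 3, 2, 1, 4, 0, 7, 3, 2, 1, 2, 5, 8, 4, 8]),
  (612, [2, 5, 1, 2, 0, 8, 3, 4, 1, 2, 6, 3, 4, 7, 3, 8, 2, 4, 1, 3, 0, 8, 2, 1, 5, 6, 8, 4, 8, 3, 7]),
  (625, [5, 1, 2, 0, 8, 3, 4, 1, 2, 6, 3, 4, 7, 3, 8, 2, 4, 1, 3, 0, 8, 2, 1, 5, 6, 4, 8, 5, 4, 3]),
  (626, [7, 5, 1, 2, 0, 4, 8, 1, 3, 4, 6, 2, 7, 3, 2, 1, 4, 0, 7, 3, 2, 1, 4, 8, 5, 7, 3]),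
  (627, [7, 5, 1, 2, 0, 4, 8, 1, 3, 4, 6, 2, 7, 3, 2, 1, 4, 0, 7, 3, 2, 1, 4, 8, 5, 7]),
  (628, [7, 5, 1, 2, 0, 4, 8, 1, 3, 4, 6, 2, 7, 3, 2, 1, 4, 0, 7, 3, 2, 1, 4, 8, 5, 7, 4]),
  (629, [1, 5, 4, 6, 7, 8, 2, 0, 3, 7, 1, 2, 3, 7, 4, 5, 3, 7, 2, 1, 3, 2, 0, 1, 4, 8]),
  (630, [7, 5, 1, 2, 0, 4, 8, 1, 3, 4, 6, 2, 7, 3, 2, 1, 4, 0, 7, 3, 2, 1, 2, 5, 8, 4]),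
  (632, [2, 7, 5, 1, 2, 0, 4, 8, 1, 3, 4, 6, 2, 7, 3, 2, 1, 4, 0, 7, 3, 2, 1, 2, 8, 7, 8]),
  (633, [5, 2, 1, 3, 8, 2, 7, 0, 1, 3, 4, 7, 2, 3, 7, 4, 2, 1, 3, 2, 0, 1, 5, 6, 7, 4]),
  (634, [2, 8, 5, 1, 2, 0, 4, 8, 1, 3, 4, 6, 2, 7, 3, 2, 1, 4, 0, 7, 3, 2, 1, 4, 8, 5, 7]),
  (635, [3, 5, 1, 0, 1, 2, 1, 3, 4, 2, 3, 7, 1, 3, 4, 2, 1, 6, 3, 0, 2, 1, 8, 2]),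
  (643, [5, 1, 2, 0, 4, 8, 1, 3, 4, 6, 2, 7, 3, 2, 1, 4, 0, 7, 3, 2, 1, 2]),
  (644, [5, 1, 2, 0, 4, 8, 1, 3, 4, 6, 2, 7, 3, 2, 1, 4, 0, 7, 3, 2, 1]),
  (645, [5, 1, 2, 0, 4, 8, 1, 3, 4, 6, 2, 7, 3, 2, 1, 4, 0, 7, 3, 2, 1, 7, 4, 3]),
  (646, [3, 5, 1, 2, 0, 4, 8, 1, 3, 4, 6, 2, 7, 3, 2, 1, 4, 0, 7, 3, 2, 1]),
  (647, [3, 5, 1, 2, 0, 4, 8, 1, 3, 4, 6, 2, 7, 3, 2, 1, 4, 0, 7, 3, 2, 1, 5]),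
  (648, [3, 5, 1, 2, 0, 4, 8, 1, 3, 4, 6, 2, 7, 3, 2, 1, 4, 0, 7, 3, 2, 1, 5, 6]),
  (649, [3, 5, 1, 2, 0, 4, 8, 1, 3, 4, 6, 2, 7, 3, 2, 1, 4, 0, 7, 3, 2, 1, 7, 5, 6, 2]),
  (661, [5, 1, 2, 0, 8, 3, 4, 1, 2, 6, 3, 4, 7, 3, 8, 2, 4, 1, 3, 0, 8, 2, 1, 5, 6, 4, 5, 3, 7, 4]),
  (662, [5, 1, 2, 0, 8, 3, 4, 1, 2, 6, 3, 4, 7, 3, 8, 2, 4, 1, 3, 0, 8, 2, 1, 5, 6, 4, 5, 3, 2, 4, 7]),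
  (663, [5, 1, 2, 0, 8, 3, 4, 1, 2, 6, 3, 4, 7, 3, 8, 2, 4, 1, 3, 0, 8, 2, 1, 5, 6, 4, 5, 3, 7, 2]),
  (664, [5, 1, 2, 0, 8, 3, 4, 1, 2, 6, 3, 4, 7, 3, 8, 2, 4, 1, 3, 0, 8, 2, 1, 5, 4, 8, 3, 6, 2, 8, 7]),
  (665, [5, 1, 2, 0, 8, 3, 4, 1, 2, 6, 3, 4, 7, 3, 8, 2, 4, 1, 3, 0, 8, 2, 1, 5, 4, 3, 7, 2]),
  (666, [5, 1, 2, 0, 8, 3, 4, 1, 2, 6, 3, 4, 7, 3, 8, 2, 4, 1, 3, 0, 8, 2, 1, 5, 4, 3, 2, 5]),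
  (682, [2, 7, 5, 1, 2, 0, 4, 8, 1, 3, 4, 6, 2, 7, 3, 2, 1, 4, 0, 7, 3, 2, 1, 7, 5, 3, 4, 8, 3, 5]),
  (683, [2, 6, 1, 3, 0, 7, 2, 3, 7, 5, 6, 1, 4, 3, 2, 1, 3, 4, 7, 3, 7, 5, 2, 0, 1, 8, 4]),
  (684, [2, 6, 1, 3, 0, 7, 2, 3, 7, 5, 6, 1, 4, 3, 2, 1, 3, 4, 7, 3, 7, 5, 2, 0, 1, 8]),
  (686, [6, 1, 3, 2, 8, 0, 3, 1, 2, 7, 5, 4, 3, 2, 0, 7, 4, 3, 5, 1, 2, 0, 1, 3, 6, 4]),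
  (687, [5, 2, 1, 3, 8, 2, 7, 0, 1, 3, 4, 7, 2, 3, 7, 4, 2, 1, 3, 2, 0, 1, 5, 6]),
  (688, [5, 2, 1, 3, 8, 2, 7, 0, 1, 3, 4, 7, 2, 3, 7, 4, 2, 1, 3, 2, 0, 1, 5, 6, 7, 4, 5]),
  (689, [1, 2, 0, 8, 3, 4, 1, 2, 6, 3, 4, 7, 3, 8, 2, 4, 1, 3, 0, 8, 2, 1, 5, 4, 3, 5, 7]),
  (699, [3, 5, 1, 2, 0, 4, 8, 1, 3, 4, 6, 2, 7, 3, 2, 1, 4, 0, 7, 3, 2, 1, 5, 2, 6, 7, 3]),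
  (700, [3, 5, 1, 2, 0, 4, 8, 1, 3, 4, 6, 2, 7, 3, 2, 1, 4, 0, 7, 3, 2, 1, 5, 6, 7, 2, 3, 4]),
  (701, [3, 5, 1, 2, 0, 4, 8, 1, 3, 4, 6, 2, 7, 3, 2, 1, 4, 0, 7, 3, 2, 1, 5, 6, 7, 2, 3, 4, 5, 6]),
  (707, [5, 1, 2, 0, 4, 8, 1, 3, 4, 6, 2, 7, 3, 2, 1, 4, 0, 7, 3, 2, 1, 5, 7, 4, 8, 3, 7]),
  (708, [5, 1, 2, 0, 8, 3, 4, 1, 2, 6, 3, 4, 7, 3, 8, 2, 4, 1, 3, 0, 8, 2, 1, 5, 4, 8, 3, 2, 5, 7]),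
  (709, [3, 5, 1, 2, 0, 8, 3, 4, 1, 2, 6, 3, 4, 7, 3, 8, 2, 4, 1, 3, 0, 8, 2, 1, 5, 4, 3, 2, 8, 3, 7]),
  (710, [5, 8, 3, 7, 1, 2, 0, 8, 3, 4, 1, 2, 6, 3, 4, 7, 3, 8, 2, 4, 1, 3, 0, 8, 2, 1, 5, 6, 4, 3, 7, 2]),
  (711, [5, 4, 6, 1, 3, 2, 8, 0, 3, 1, 2, 7, 5, 4, 3, 2, 0, 7, 4, 3, 5, 1, 2, 0, 1, 7, 4, 3, 2]),
  (728, [2, 5, 1, 2, 0, 8, 3, 4, 1, 2, 6, 3, 4, 7, 3, 8, 2, 4, 1, 3, 0, 8, 2, 1, 5, 6, 4, 5, 3, 2]),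
  (729, [2, 5, 1, 2, 0, 8, 3, 4, 1, 2, 6, 3, 4, 7, 3, 8, 2, 4, 1, 3, 0, 8, 2, 1, 5, 6, 4, 5]),
  (731, [5, 3, 2, 1, 3, 8, 2, 7, 0, 1, 3, 4, 7, 2, 3, 7, 4, 2, 1, 3, 2, 0, 1, 5, 6, 7, 4, 3]),
  (732, [6, 1, 3, 2, 8, 0, 3, 1, 2, 7, 5, 4, 3, 2, 0, 7, 4, 3, 5, 1, 2, 0, 1, 3, 6]),
  (733, [5, 6, 1, 2, 0, 8, 3, 4, 1, 2, 6, 3, 4, 7, 3, 8, 2, 4, 1, 3, 0, 8, 2, 1, 5, 6, 4, 5]),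
  (740, [5, 1, 2, 0, 4, 8, 1, 3, 4, 6, 2, 7, 3, 2, 1, 4, 0, 7, 3, 2, 1, 5, 2, 6, 7, 3]),
  (741, [5, 1, 2, 0, 4, 8, 1, 3, 4, 6, 2, 7, 3, 2, 1, 4, 0, 7, 3, 2, 1, 2, 5, 6, 2]),
  (742, [5, 1, 2, 0, 4, 8, 1, 3, 4, 6, 2, 7, 3, 2, 1, 4, 0, 7, 3, 2, 1, 5, 3, 6]),
  (743, [3, 5, 1, 2, 0, 4, 8, 1, 3, 4, 6, 2, 7, 3, 2, 1, 4, 0, 7, 3, 2, 1, 5, 4, 8, 7]),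
  (744, [5, 1, 2, 0, 4, 8, 1, 3, 4, 6, 2, 7, 3, 2, 1, 4, 0, 7, 3, 2, 1, 5, 3, 4, 8, 7]),
  (745, [3, 5, 1, 2, 0, 4, 8, 1, 3, 4, 6, 2, 7, 3, 2, 1, 4, 0, 7, 3, 2, 1, 5, 7, 4, 8]),
  (746, [5, 1, 2, 0, 4, 8, 1, 3, 4, 6, 2, 7, 3, 2, 1, 4, 0, 7, 3, 2, 1, 5, 3, 8, 6, 4]),
  (772, [5, 1, 2, 0, 8, 3, 4, 1, 2, 6, 3, 4, 7, 3, 8, 2, 4, 1, 3, 0, 8, 2, 1, 5, 6, 4, 5, 3, 2]),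
  (773, [5, 1, 2, 0, 4, 8, 1, 3, 4, 6, 2, 7, 3, 2, 1, 4, 0, 7, 3, 2, 1, 2, 5, 6, 3, 4, 2, 5]),
  (782, [7, 5, 1, 2, 0, 4, 8, 1, 3, 4, 6, 2, 7, 3, 2, 1, 4, 0, 7, 3, 2, 1, 5, 7, 8, 7]),
  (783, [7, 5, 1, 2, 0, 4, 8, 1, 3, 4, 6, 2, 7, 3, 2, 1, 4, 0, 7, 3, 2, 1, 5, 7, 8, 7, 3]),
  (784, [5, 1, 2, 8, 3, 4, 0, 7, 3, 4, 6, 2, 1, 4, 3, 2, 7, 4, 0, 3, 7, 4, 3, 2, 1, 8, 3, 5, 2, 4]),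
  (785, [3, 5, 1, 2, 0, 4, 8, 1, 3, 4, 6, 2, 7, 3, 2, 1, 4, 0, 7, 3, 2, 1, 7, 5, 3, 4, 8, 5, 7]),
  (786, [3, 5, 1, 2, 0, 4, 8, 1, 3, 4, 6, 2, 7, 3, 2, 1, 4, 0, 7, 3, 2, 1, 7, 8, 3, 5, 7, 4, 3]),
  (787, [5, 1, 2, 0, 8, 3, 4, 1, 2, 6, 3, 4, 7, 3, 8, 2, 4, 1, 3, 0, 8, 2, 1, 5, 4, 8, 6, 7, 3]),
  (788, [5, 1, 2, 0, 8, 3, 4, 1, 2, 6, 3, 4, 7, 3, 8, 2, 4, 1, 3, 0, 8, 2, 1, 5, 4, 8, 6, 7, 5, 3, 4]),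
  (789, [5, 1, 2, 0, 8, 3, 4, 1, 2, 6, 3, 4, 7, 3, 8, 2, 4, 1, 3, 0, 8, 2, 1, 5, 4, 8, 6, 7, 3, 2, 5, 7]),
  (818, [3, 5, 1, 0, 1, 2, 1, 3, 4, 2, 3, 7, 1, 3, 4, 2, 1, 6, 3, 0, 2, 1, 4, 8]),
  (823, [5, 1, 2, 8, 3, 4, 0, 7, 3, 4, 6, 2, 1, 4, 3, 2, 7, 4, 0, 3, 7, 4, 3, 2, 1, 5, 7, 4, 3]),
  (824, [3, 5, 1, 2, 0, 4, 8, 1, 3, 4, 6, 2, 7, 3, 2, 1, 4, 0, 7, 3, 2, 1, 5, 7, 4, 8, 5, 3]),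
  (825, [3, 5, 1, 2, 0, 4, 8, 1, 3, 4, 6, 2, 7, 3, 2, 1, 4, 0, 7, 3, 2, 1, 5, 7, 4, 8, 5, 3, 7]),
  (854, [5, 6, 3, 1, 2, 0, 8, 3, 4, 1, 2, 6, 3, 4, 7, 3, 8, 2, 4, 1, 3, 0, 8, 2, 1, 5, 6, 4, 3]),
  (858, [8, 7, 5, 1, 2, 0, 4, 8, 1, 3, 4, 6, 2, 7, 3, 2, 1, 4, 0, 7, 3, 2, 1, 4, 8, 7, 4, 3]),
  (859, [1, 2, 0, 8, 3, 4, 1, 2, 6, 3, 4, 7, 3, 8, 2, 4, 1, 3, 0, 8, 2, 1, 5, 6, 4, 3, 4, 8]),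
  (860, [1, 2, 0, 8, 3, 4, 1, 2, 6, 3, 4, 7, 3, 8, 2, 4, 1, 3, 0, 8, 2, 1, 5, 6, 4, 5, 3, 8, 2]),
  (861, [5, 1, 2, 0, 4, 8, 1, 3, 4, 6, 2, 7, 3, 2, 1, 4, 0, 7, 3, 2, 1, 2, 8, 5, 2, 6, 7, 3]),
  (862, [3, 5, 1, 2, 0, 4, 8, 1, 3, 4, 6, 2, 7, 3, 2, 1, 4, 0, 7, 3, 2, 1, 7, 5, 3, 8]),
  (868, [3, 5, 1, 2, 0, 4, 8, 1, 3, 4, 6, 2, 7, 3, 2, 1, 4, 0, 7, 3, 2, 1, 5, 8, 4, 8, 7]),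
  (869, [3, 5, 1, 2, 0, 4, 8, 1, 3, 4, 6, 2, 7, 3, 2, 1, 4, 0, 7, 3, 2, 1, 5, 7, 4, 3]),
  (870, [3, 5, 1, 2, 0, 4, 8, 1, 3, 4, 6, 2, 7, 3, 2, 1, 4, 0, 7, 3, 2, 1, 2, 7, 5, 3, 4, 3]),
  (871, [5, 3, 1, 2, 0, 8, 3, 4, 1, 2, 6, 3, 4, 7, 3, 8, 2, 4, 1, 3, 0, 8, 2, 1, 5, 4, 7, 5, 6, 3, 4]),
  (872, [3, 5, 1, 2, 0, 4, 8, 1, 3, 4, 6, 2, 7, 3, 2, 1, 4, 0, 7, 3, 2, 1, 2, 7, 5, 3, 4, 3, 5, 6, 7]),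
  (897, [5, 1, 2, 8, 3, 4, 0, 7, 3, 4, 6, 2, 1, 4, 3, 2, 7, 4, 0, 3, 7, 4, 3, 2, 1, 3, 8]),
  (901, [1, 2, 0, 8, 3, 4, 1, 2, 6, 3, 4, 7, 3, 8, 2, 4, 1, 3, 0, 8, 2, 1, 5, 6, 4, 3, 7]),
  (902, [1, 2, 0, 8, 3, 4, 1, 2, 6, 3, 4, 7, 3, 8, 2, 4, 1, 3, 0, 8, 2, 1, 5, 6, 4, 3]),
  (903, [5, 1, 2, 0, 4, 8, 1, 3, 4, 6, 2, 7, 3, 2, 1, 4, 0, 7, 3, 2, 1, 4, 8, 5, 7]),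
  (904, [5, 1, 2, 0, 4, 8, 1, 3, 4, 6, 2, 7, 3, 2, 1, 4, 0, 7, 3, 2, 1, 8, 5, 6, 7]),
  (905, [5, 1, 2, 0, 4, 8, 1, 3, 4, 6, 2, 7, 3, 2, 1, 4, 0, 7, 3, 2, 1, 8, 5, 6]),
  (939, [3, 5, 1, 2, 0, 4, 8, 1, 3, 4, 6, 2, 7, 3, 2, 1, 4, 0, 7, 3, 2, 1, 7, 8]),
  (946, [5, 1, 2, 0, 4, 8, 1, 3, 4, 6, 2, 7, 3, 2, 1, 4, 0, 7, 3, 2, 1, 2, 8, 5, 6]),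
  (947, [5, 1, 2, 0, 8, 3, 4, 1, 2, 6, 3, 4, 7, 3, 8, 2, 4, 1, 3, 0, 8, 2, 1, 5, 4, 8, 6, 2]),
  (948, [5, 1, 2, 0, 4, 8, 1, 3, 4, 6, 2, 7, 3, 2, 1, 4, 0, 7, 3, 2, 1, 2, 8, 3, 5, 6, 4, 5]),
  (949, [2, 1, 2, 0, 4, 8, 1, 3, 4, 6, 2, 7, 3, 2, 1, 4, 0, 7, 3, 2, 1, 5, 6, 3, 4, 5, 3, 4, 8]),
  (977, [5, 6, 1, 2, 3, 0, 1, 2, 4, 8, 7, 3, 6, 2, 1, 4, 0, 7, 3, 2, 1, 8, 5, 3, 6]),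
  (984, [7, 5, 1, 2, 0, 4, 8, 1, 3, 4, 6, 2, 7, 3, 2, 1, 4, 0, 7, 3, 2, 1, 4, 8, 7, 4, 3]),
  (985, [7, 5, 1, 2, 0, 4, 8, 1, 3, 4, 6, 2, 7, 3, 2, 1, 4, 0, 7, 3, 2, 1, 4, 8, 7, 4, 3, 4]),
  (986, [7, 5, 1, 2, 0, 4, 8, 1, 3, 4, 6, 2, 7, 3, 2, 1, 4, 0, 7, 3, 2, 1, 4, 8, 7, 4, 3, 4, 5]),
  (987, [5, 1, 2, 8, 3, 4, 0, 7, 3, 4, 6, 2, 1, 4, 3, 2, 7, 4, 0, 3, 7, 4, 3, 2, 1, 3, 5, 2]),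
  (988, [3, 5, 1, 2, 0, 4, 8, 1, 3, 4, 6, 2, 7, 3, 2, 1, 4, 0, 7, 3, 2, 1, 7, 5, 3]),
  (989, [3, 5, 1, 2, 0, 4, 8, 1, 3, 4, 6, 2, 7, 3, 2, 1, 4, 0, 7, 3, 2, 1, 7, 5]),
  (1002, [3, 5, 1, 2, 0, 4, 8, 1, 3, 4, 6, 2, 7, 3, 2, 1, 4, 0, 7, 3, 2, 1, 8, 7]),
  (1011, [5, 1, 2, 0, 4, 8, 1, 3, 4, 6, 2, 7, 3, 2, 1, 4, 0, 7, 3, 2, 1, 2, 5, 6, 3, 4]),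
  (1012, [5, 1, 2, 0, 8, 3, 4, 1, 2, 6, 3, 4, 7, 3, 8, 2, 4, 1, 3, 0, 8, 2, 1, 5, 4, 5, 6]),
  (1013, [3, 5, 4, 1, 2, 0, 8, 3, 4, 1, 2, 6, 3, 4, 7, 3, 8, 2, 4, 1, 3, 0, 8, 2, 1, 5, 6, 4, 5, 3]),
  (1014, [5, 3, 1, 2, 0, 8, 3, 4, 1, 2, 6, 3, 4, 7, 3, 8, 2, 4, 1, 3, 0, 8, 2, 1, 5, 4, 7, 5, 8, 3, 7]),
  (1043, [5, 3, 1, 2, 0, 8, 3, 4, 1, 2, 6, 3, 4, 7, 3, 8, 2, 4, 1, 3, 0, 8, 2, 1, 5, 6, 4, 5, 8]),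
  (1044, [3, 5, 1, 2, 0, 8, 3, 4, 1, 2, 6, 3, 4, 7, 3, 8, 2, 4, 1, 3, 0, 8, 2, 1, 5, 4, 8, 6, 5, 3]),
  (1045, [5, 1, 2, 0, 8, 3, 4, 1, 2, 6, 3, 4, 7, 3, 8, 2, 4, 1, 3, 0, 8, 2, 1, 5, 4, 8, 6, 5, 3, 4]),
  (1046, [5, 1, 2, 0, 8, 3, 4, 1, 2, 6, 3, 4, 7, 3, 8, 2, 4, 1, 3, 0, 8, 2, 1, 5, 4, 8, 6, 5, 3, 4, 7]),
  (1068, [3, 7, 5, 1, 2, 0, 4, 8, 1, 3, 4, 6, 2, 7, 3, 2, 1, 4, 0, 7, 3, 2, 1, 4, 8, 5, 7, 3]),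
  (1072, [5, 1, 2, 0, 4, 8, 1, 3, 4, 6, 2, 7, 3, 2, 1, 4, 0, 7, 3, 2, 1, 5, 6, 7, 2, 3, 4, 8, 3, 5]),
  (1084, [5, 3, 1, 2, 0, 8, 3, 4, 1, 2, 6, 3, 4, 7, 3, 8, 2, 4, 1, 3, 0, 8, 2, 1, 5, 6, 4, 3, 4, 7]),
  (1095, [6, 1, 3, 2, 8, 0, 3, 1, 2, 7, 5, 4, 3, 2, 0, 7, 4, 3, 5, 1, 2, 0, 1, 3, 6, 8]),
  (1105, [5, 4, 6, 1, 3, 2, 8, 0, 3, 1, 2, 7, 5, 4, 3, 2, 0, 7, 4, 3, 5, 1, 2, 0, 1]),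
  (1106, [5, 1, 2, 0, 4, 8, 1, 3, 4, 6, 2, 7, 3, 2, 1, 4, 0, 7, 3, 2, 1, 5]),
  (1126, [5, 1, 2, 0, 4, 8, 1, 3, 4, 6, 2, 7, 3, 2, 1, 4, 0, 7, 3, 2, 1, 3, 8, 7, 8]),
  (1127, [5, 1, 2, 0, 4, 8, 1, 3, 4, 6, 2, 7, 3, 2, 1, 4, 0, 7, 3, 2, 1, 3, 8, 7, 3, 8]),
  (1128, [7, 5, 1, 2, 0, 4, 8, 1, 3, 4, 6, 2, 7, 3, 2, 1, 4, 0, 7, 3, 2, 1, 4, 8, 7, 4, 3, 2]),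
  (1131, [5, 1, 2, 0, 8, 3, 4, 1, 2, 6, 3, 4, 7, 3, 8, 2, 4, 1, 3, 0, 8, 2, 1, 5, 4, 8, 7]),
  (1132, [2, 5, 1, 2, 0, 4, 8, 1, 3, 4, 6, 2, 7, 3, 2, 1, 4, 0, 7, 3, 2, 1, 5, 3, 4, 8, 7]),
  (1161, [5, 3, 1, 2, 0, 8, 3, 4, 1, 2, 6, 3, 4, 7, 3, 8, 2, 4, 1, 3, 0, 8, 2, 1, 5, 4, 7, 5, 8, 3, 7, 2, 4]),
  (1162, [3, 5, 4, 3, 1, 2, 0, 8, 3, 4, 1, 2, 6, 3, 4, 7, 3, 8, 2, 4, 1, 3, 0, 8, 2, 1, 5, 6, 4, 5, 3, 4, 7]),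
  (1163, [5, 1, 2, 0, 8, 3, 4, 1, 2, 6, 3, 4, 7, 3, 8, 2, 4, 1, 3, 0, 8, 2, 1, 5, 4, 8, 6, 7, 3, 2, 4, 7, 2]),
  (1164, [8, 1, 2, 3, 5, 4, 0, 1, 2, 7, 3, 4, 2, 7, 0, 3, 5, 4, 6, 0, 4, 5, 1, 2, 0, 1, 8, 4, 7, 3, 7, 2]),
  (1204, [1, 2, 0, 8, 3, 4, 1, 2, 6, 3, 4, 7, 3, 8, 2, 4, 1, 3, 0, 8, 2, 1, 5, 6, 4, 5, 3, 7]),
  (1205, [1, 2, 0, 8, 3, 4, 1, 2, 6, 3, 4, 7, 3, 8, 2, 4, 1, 3, 0, 8, 2, 1, 5, 6, 4, 5, 3, 4, 2, 5]),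
  (1206, [1, 2, 0, 8, 3, 4, 1, 2, 6, 3, 4, 7, 3, 8, 2, 4, 1, 3, 0, 8, 2, 1, 5, 6, 4, 5, 3, 4, 2, 5, 3]),
  (1207, [3, 1, 2, 0, 8, 3, 4, 1, 2, 6, 3, 4, 7, 3, 8, 2, 4, 1, 3, 0, 8, 2, 1, 5, 6, 4, 5, 3, 4, 7, 2, 5, 7, 3]),
  (1226, [5, 1, 2, 0, 4, 8, 1, 3, 4, 6, 2, 7, 3, 2, 1, 4, 0, 7, 3, 2, 1, 8, 5, 6, 7, 5]),
  (1227, [5, 1, 2, 8, 3, 4, 0, 7, 3, 4, 6, 2, 1, 4, 3, 2, 7, 4, 0, 3, 7, 4, 3, 2, 1, 8, 3, 7]),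
  (1229, [5, 1, 2, 0, 4, 8, 1, 3, 4, 6, 2, 7, 3, 2, 1, 4, 0, 7, 3, 2, 1, 3, 5, 4, 2, 7, 3]),
  (1230, [5, 1, 2, 0, 4, 8, 1, 3, 4, 6, 2, 7, 3, 2, 1, 4, 0, 7, 3, 2, 1, 5, 6, 3, 8, 4, 3, 5, 7]),
  (1273, [5, 1, 2, 0, 4, 8, 1, 3, 4, 6, 2, 7, 3, 2, 1, 4, 0, 7, 3, 2, 1, 2, 5, 8, 4]),
  (1274, [5, 6, 2, 1, 3, 8, 2, 7, 0, 1, 3, 4, 7, 2, 3, 7, 4, 2, 1, 3, 2, 0, 1, 5, 3, 8, 4, 6, 7]),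
  (1294, [1, 2, 0, 8, 3, 4, 1, 2, 6, 3, 4, 7, 3, 8, 2, 4, 1, 3, 0, 8, 2, 1, 5, 4, 5, 6]),
  (1296, [7, 5, 1, 2, 0, 4, 8, 1, 3, 4, 6, 2, 7, 3, 2, 1, 4, 0, 7, 3, 2, 1, 4, 8, 5, 7, 3, 4, 8, 3]),
  (1297, [1, 2, 3, 5, 4, 0, 1, 2, 7, 3, 4, 2, 7, 0, 3, 5, 4, 6, 0, 4, 5, 1, 2, 0, 1, 8, 4, 7, 3]),
  (1298, [1, 2, 3, 5, 4, 0, 1, 2, 7, 3, 4, 2, 7, 0, 3, 5, 4, 6, 0, 4, 5, 1, 2, 0, 1, 8, 4, 7, 3, 7, 2]),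
  (1299, [7, 5, 1, 2, 0, 4, 8, 1, 3, 4, 6, 2, 7, 3, 2, 1, 4, 0, 7, 3, 2, 1, 2, 5, 8, 4, 7, 3, 8, 2]),
  (1300, [2, 5, 1, 2, 0, 8, 3, 4, 1, 2, 6, 3, 4, 7, 3, 8, 2, 4, 1, 3, 0, 8, 2, 1, 5, 6, 8, 4, 8, 3, 2]),
  (1301, [5, 1, 2, 0, 8, 3, 4, 1, 2, 6, 3, 4, 7, 3, 8, 2, 4, 1, 3, 0, 8, 2, 1, 5, 4, 3, 2, 5, 3]),
  (1302, [2, 5, 1, 2, 0, 8, 3, 4, 1, 2, 6, 3, 4, 7, 3, 8, 2, 4, 1, 3, 0, 8, 2, 1, 5, 4, 3, 2, 7]),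
  (1307, [8, 3, 5, 7, 4, 3, 2]),
  (1342, [5, 1, 2, 0, 4, 8, 1, 3, 4, 6, 2, 7, 3, 2, 1, 4, 0, 7, 3, 2, 1, 5, 7, 4, 3, 5, 6, 2]),
  (1343, [5, 1, 2, 0, 4, 8, 1, 3, 4, 6, 2, 7, 3, 2, 1, 4, 0, 7, 3, 2, 1, 3, 8, 7]),
  (1344, [3, 5, 1, 2, 0, 4, 8, 1, 3, 4, 6, 2, 7, 3, 2, 1, 4, 0, 7, 3, 2, 1, 8]),
  (1362, [5, 3, 8, 4, 6, 7, 5, 3, 2, 1, 3, 8, 2, 7, 0, 1, 3, 4, 7, 2, 3, 7, 4, 2, 1, 3, 2, 0, 1, 5, 6]),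
  (1363, [3, 5, 4, 6, 1, 3, 2, 8, 0, 3, 1, 2, 7, 5, 4, 3, 2, 0, 7, 4, 3, 5, 1, 2, 0, 1, 2, 6, 7, 3]),
  (1364, [5, 6, 3, 4, 5, 6, 1, 2, 3, 0, 1, 2, 4, 8, 7, 3, 6, 2, 1, 4, 0, 7, 3, 2, 1, 5, 6, 7]),
  (1365, [5, 6, 3, 4, 5, 6, 1, 2, 3, 0, 1, 2, 4, 8, 7, 3, 6, 2, 1, 4, 0, 7, 3, 2, 1, 5, 6, 7, 4]),
  (1366, [5, 6, 3, 4, 5, 6, 1, 2, 3, 0, 1, 2, 4, 8, 7, 3, 6, 2, 1, 4, 0, 7, 3, 2, 1, 3, 5, 6, 4, 5, 7]),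
  (1367, [5, 6, 3, 4, 5, 6, 1, 2, 3, 0, 1, 2, 4, 8, 7, 3, 6, 2, 1, 4, 0, 7, 3, 2, 1, 3, 5, 6, 4, 5]),
  (1377, [3, 5, 1, 2, 0, 4, 8, 1, 3, 4, 6, 2, 7, 3, 2, 1, 4, 0, 7, 3, 2, 1, 5, 4, 2, 8, 3, 2]),
  (1378, [3, 5, 1, 2, 0, 4, 8, 1, 3, 4, 6, 2, 7, 3, 2, 1, 4, 0, 7, 3, 2, 1, 5, 4, 2, 8, 3]),
  (1379, [3, 5, 1, 2, 0, 4, 8, 1, 3, 4, 6, 2, 7, 3, 2, 1, 4, 0, 7, 3, 2, 1, 8, 5, 2]),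
  (1380, [5, 1, 2, 0, 4, 8, 1, 3, 4, 6, 2, 7, 3, 2, 1, 4, 0, 7, 3, 2, 1, 5, 6, 3, 8, 7]),
  (1381, [3, 5, 1, 2, 0, 4, 8, 1, 3, 4, 6, 2, 7, 3, 2, 1, 4, 0, 7, 3, 2, 1, 4, 8, 5, 7]),
  (1382, [5, 1, 2, 0, 4, 8, 1, 3, 4, 6, 2, 7, 3, 2, 1, 4, 0, 7, 3, 2, 1, 2, 4, 8, 2, 3]),
  (1384, [5, 4, 6, 1, 3, 2, 8, 0, 3, 1, 2, 7, 5, 4, 3, 2, 0, 7, 4, 3, 5, 1, 2, 0, 1, 7, 4, 8]),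
  (1404, [3, 5, 1, 2, 0, 8, 3, 4, 1, 2, 6, 3, 4, 7, 3, 8, 2, 4, 1, 3, 0, 8, 2, 1, 5, 4, 3, 2, 8]),
  (1405, [5, 4, 6, 1, 3, 2, 8, 0, 3, 1, 2, 7, 5, 4, 3, 2, 0, 7, 4, 3, 5, 1, 2, 0, 1, 4, 8, 3]),
  (1406, [3, 5, 1, 2, 0, 4, 8, 1, 3, 4, 6, 2, 7, 3, 2, 1, 4, 0, 7, 3, 2, 1, 3, 6, 5, 6]),
  (1407, [3, 5, 1, 2, 0, 4, 8, 1, 3, 4, 6, 2, 7, 3, 2, 1, 4, 0, 7, 3, 2, 1, 7]),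
  (1412, [3, 5, 1, 2, 0, 4, 8, 1, 3, 4, 6, 2, 7, 3, 2, 1, 4, 0, 7, 3, 2, 1, 5, 6, 7, 2, 3, 4, 7, 2]),
  (1413, [7, 8, 5, 1, 2, 0, 4, 8, 1, 3, 4, 6, 2, 7, 3, 2, 1, 4, 0, 7, 3, 2, 1, 3, 8, 7, 3, 5, 4]),
  (1414, [5, 1, 2, 0, 8, 3, 4, 1, 2, 6, 3, 4, 7, 3, 8, 2, 4, 1, 3, 0, 8, 2, 1, 5, 4, 8, 3, 6]),
  (1415, [5, 1, 2, 0, 8, 3, 4, 1, 2, 6, 3, 4, 7, 3, 8, 2, 4, 1, 3, 0, 8, 2, 1, 5, 4, 8, 3]),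
  (1424, [5, 1, 2, 0, 8, 3, 4, 1, 2, 6, 3, 4, 7, 3, 8, 2, 4, 1, 3, 0, 8, 2, 1, 5, 4, 8, 3, 6, 2, 8, 4, 8]),
  (1425, [5, 1, 2, 0, 4, 8, 1, 3, 4, 6, 2, 7, 3, 2, 1, 4, 0, 7, 3, 2, 1, 5, 6, 3, 8, 4, 3]),
  (1426, [5, 1, 2, 0, 4, 8, 1, 3, 4, 6, 2, 7, 3, 2, 1, 4, 0, 7, 3, 2, 1, 5, 3, 6, 8]),
  (1427, [5, 1, 2, 8, 3, 4, 0, 7, 3, 4, 6, 2, 1, 4, 3, 2, 7, 4, 0, 3, 7, 4, 3, 2, 1, 3, 8, 2]),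
  (1428, [3, 8, 7, 5, 1, 2, 0, 4, 8, 1, 3, 4, 6, 2, 7, 3, 2, 1, 4, 0, 7, 3, 2, 1, 2, 3]),
  (1442, [4, 1, 2, 0, 8, 3, 4, 1, 2, 6, 3, 4, 7, 3, 8, 2, 4, 1, 3, 0, 8, 2, 1, 5, 6, 4, 3]),
  (1445, [5, 1, 2, 0, 4, 8, 1, 3, 4, 6, 2, 7, 3, 2, 1, 4, 0, 7, 3, 2, 1, 2, 8]),
  (1460, [3, 5, 1, 2, 0, 4, 8, 1, 3, 4, 6, 2, 7, 3, 2, 1, 4, 0, 7, 3, 2, 1, 5, 7, 4, 3, 4, 8, 2]),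
  (1461, [3, 5, 4, 1, 2, 0, 8, 3, 4, 1, 2, 6, 3, 4, 7, 3, 8, 2, 4, 1, 3, 0, 8, 2, 1, 5, 6, 4, 5, 3, 4]),
  (1462, [3, 5, 1, 2, 0, 4, 8, 1, 3, 4, 6, 2, 7, 3, 2, 1, 4, 0, 7, 3, 2, 1, 7, 5, 3, 4, 8]),
  (1464, [7, 5, 1, 2, 0, 4, 8, 1, 3, 4, 6, 2, 7, 3, 2, 1, 4, 0, 7, 3, 2, 1, 8, 5, 6]),
  (1465, [5, 1, 2, 0, 8, 3, 4, 1, 2, 6, 3, 4, 7, 3, 8, 2, 4, 1, 3, 0, 8, 2, 1, 5, 4, 8, 6, 2, 3]),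
  (1466, [5, 1, 2, 0, 4, 8, 1, 3, 4, 6, 2, 7, 3, 2, 1, 4, 0, 7, 3, 2, 1, 5, 4, 2, 8, 3]),
  (1479, [5, 1, 2, 0, 4, 8, 1, 3, 4, 6, 2, 7, 3, 2, 1, 4, 0, 7, 3, 2, 1, 5, 7, 4, 8, 3, 5, 6, 2]),
  (1480, [5, 1, 2, 0, 8, 3, 4, 1, 2, 6, 3, 4, 7, 3, 8, 2, 4, 1, 3, 0, 8, 2, 1, 5, 4, 8, 6]),
  (1481, [1, 2, 0, 4, 8, 1, 3, 4, 6, 2, 7, 3, 2, 1, 4, 0, 7, 3, 2, 1, 5, 3, 6, 4, 2, 7]),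
  (1482, [5, 2, 1, 3, 8, 2, 7, 0, 1, 3, 4, 7, 2, 3, 7, 4, 2, 1, 3, 2, 0, 1, 5, 6, 7, 8]),
  (1483, [5, 1, 2, 8, 3, 4, 0, 7, 3, 4, 6, 2, 1, 4, 3, 2, 7, 4, 0, 3, 7, 4, 3, 2, 1, 2, 3, 5, 4, 2]),
  (1484, [5, 1, 2, 0, 8, 3, 4, 1, 2, 6, 3, 4, 7, 3, 8, 2, 4, 1, 3, 0, 8, 2, 1, 5, 4, 8, 3, 5, 4, 7]),
  (1497, [5, 1, 2, 0, 4, 8, 1, 3, 4, 6, 2, 7, 3, 2, 1, 4, 0, 7, 3, 2, 1, 5, 4, 2, 8, 3, 5, 6, 2]),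
  (1499, [3, 5, 1, 2, 0, 4, 8, 1, 3, 4, 6, 2, 7, 3, 2, 1, 4, 0, 7, 3, 2, 1, 8, 5, 3, 6]),
  (1525, [5, 4, 6, 1, 3, 2, 8, 0, 3, 1, 2, 7, 5, 4, 3, 2, 0, 7, 4, 3, 5, 1, 2, 0, 1, 7, 4, 3, 8, 5, 2]),
  (1528, [1, 2, 0, 4, 8, 1, 3, 4, 6, 2, 7, 3, 2, 1, 4, 0, 7, 3, 2, 1, 2, 8, 5, 6]),
  (1529, [1, 2, 0, 8, 3, 4, 1, 2, 6, 3, 4, 7, 3, 8, 2, 4, 1, 3, 0, 8, 2, 1, 5, 6, 4]),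
  (1530, [2, 1, 3, 8, 2, 7, 0, 1, 3, 4, 7, 2, 3, 7, 4, 2, 1, 3, 2, 0, 1, 5, 6, 7, 4]),
  (1547, [5, 3, 8, 4, 6, 5, 7, 1, 2, 0, 8, 3, 4, 1, 2, 6, 3, 4, 7, 3, 8, 2, 4, 1, 3, 0, 8, 2, 1, 5, 4, 3, 2]),
  (1563, [7, 5, 1, 2, 0, 4, 8, 1, 3, 4, 6, 2, 7, 3, 2, 1, 4, 0, 7, 3, 2, 1, 5, 3, 8, 4, 6, 7, 5, 3]),
  (1564, [7, 5, 1, 2, 0, 4, 8, 1, 3, 4, 6, 2, 7, 3, 2, 1, 4, 0, 7, 3, 2, 1, 8, 3, 5, 7, 4, 3, 4]),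
  (1565, [3, 5, 1, 2, 0, 4, 8, 1, 3, 4, 6, 2, 7, 3, 2, 1, 4, 0, 7, 3, 2, 1, 5, 6, 7, 2, 3, 4, 7, 2, 3]),
  (1566, [3, 5, 4, 6, 1, 3, 2, 8, 0, 3, 1, 2, 7, 5, 4, 3, 2, 0, 7, 4, 3, 5, 1, 2, 0, 1, 4, 3, 8, 7, 2]),
  (1567, [3, 5, 4, 6, 1, 3, 2, 8, 0, 3, 1, 2, 7, 5, 4, 3, 2, 0, 7, 4, 3, 5, 1, 2, 0, 1, 4, 2, 8, 3, 2]),
  (1568, [3, 5, 4, 6, 1, 3, 2, 8, 0, 3, 1, 2, 7, 5, 4, 3, 2, 0, 7, 4, 3, 5, 1, 2, 0, 1, 4, 3, 8]),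
  (1569, [3, 5, 4, 6, 1, 3, 2, 8, 0, 3, 1, 2, 7, 5, 4, 3, 2, 0, 7, 4, 3, 5, 1, 2, 0, 1, 4]),
  (1570, [3, 5, 4, 6, 1, 3, 2, 8, 0, 3, 1, 2, 7, 5, 4, 3, 2, 0, 7, 4, 3, 5, 1, 2, 0, 1]),
  (1571, [5, 6, 3, 4, 5, 6, 1, 2, 3, 0, 1, 2, 4, 8, 7, 3, 6, 2, 1, 4, 0, 7, 3, 2, 1]),
  (1572, [3, 5, 6, 4, 5, 2, 1, 3, 8, 2, 7, 0, 1, 3, 4, 7, 2, 3, 7, 4, 2, 1, 3, 2, 0, 1]),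
  (1585, [5, 1, 0, 1, 2, 1, 3, 4, 2, 3, 7, 1, 3, 4, 2, 1, 6, 3, 0, 2, 1, 4]),
  (1586, [1, 5, 4, 6, 7, 8, 2, 0, 3, 7, 1, 2, 3, 7, 4, 5, 3, 7, 2, 1, 3, 2, 0, 1]),
  (1587, [8, 5, 6]),
  (1588, [5, 6, 2, 8]),
  (1613, [5, 3, 4, 8, 7, 6, 3, 2, 5, 1, 2, 0, 4, 8, 1, 3, 4, 6, 2, 7, 3, 2, 1, 4, 0, 7, 3, 2, 1, 2, 5, 6, 2]),
  (1614, [5, 3, 4, 8, 7, 6, 3, 2, 5, 1, 2, 0, 4, 8, 1, 3, 4, 6, 2, 7, 3, 2, 1, 4, 0, 7, 3, 2, 1, 5, 3, 6]),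
  (1615, [5, 1, 2, 0, 8, 3, 4, 1, 2, 6, 3, 4, 7, 3, 8, 2, 4, 1, 3, 0, 8, 2, 1, 5, 4, 8, 3, 6, 2, 8, 7, 3]),
  (1616, [5, 1, 2, 0, 8, 3, 4, 1, 2, 6, 3, 4, 7, 3, 8, 2, 4, 1, 3, 0, 8, 2, 1, 5, 6, 4, 5, 3, 7, 2, 3]),
  (1617, [5, 1, 2, 0, 4, 8, 1, 3, 4, 6, 2, 7, 3, 2, 1, 4, 0, 7, 3, 2, 1, 5, 4, 2, 8, 3, 5, 6, 2, 5]),
  (1620, [5, 1, 0, 1, 2, 1, 3, 4, 2, 3, 7, 1, 3, 4, 2, 1, 6, 3, 0, 2, 1, 8]),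
  (1621, [5, 1, 2, 0, 8, 3, 4, 1, 2, 6, 3, 4, 7, 3, 8, 2, 4, 1, 3, 0, 8, 2, 1, 5, 4, 3, 4, 7, 3, 8]),
  (1622, [5, 1, 2, 0, 8, 3, 4, 1, 2, 6, 3, 4, 7, 3, 8, 2, 4, 1, 3, 0, 8, 2, 1, 5, 4, 3, 4, 7, 8]),
  (1623, [5, 1, 2, 0, 8, 3, 4, 1, 2, 6, 3, 4, 7, 3, 8, 2, 4, 1, 3, 0, 8, 2, 1, 5, 4, 3, 7, 2, 4, 8]),
  (1674, [5, 7, 1, 2, 0, 8, 3, 4, 1, 2, 6, 3, 4, 7, 3, 8, 2, 4, 1, 3, 0, 8, 2, 1, 5, 4, 3, 4, 8]),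
  (1675, [8, 5, 1, 2, 0, 4, 8, 1, 3, 4, 6, 2, 7, 3, 2, 1, 4, 0, 7, 3, 2, 1, 5, 7, 4, 8, 3, 7]),
  (1676, [7, 5, 1, 2, 0, 4, 8, 1, 3, 4, 6, 2, 7, 3, 2, 1, 4, 0, 7, 3, 2, 1, 2, 5, 2, 4, 8, 3, 7, 3]),
  (1677, [7, 5, 1, 2, 0, 4, 8, 1, 3, 4, 6, 2, 7, 3, 2, 1, 4, 0, 7, 3, 2, 1, 8, 3, 5, 7, 4, 3, 2, 7]),
  (1717, [5, 3, 1, 2, 0, 8, 3, 4, 1, 2, 6, 3, 4, 7, 3, 8, 2, 4, 1, 3, 0, 8, 2, 1, 5, 6, 4, 5, 3, 7]),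
  (1718, [5, 1, 2, 0, 8, 3, 4, 1, 2, 6, 3, 4, 7, 3, 8, 2, 4, 1, 3, 0, 8, 2, 1, 5, 4, 5, 3, 6, 4, 7, 5, 8]),
  (1719, [5, 1, 2, 0, 4, 8, 1, 3, 4, 6, 2, 7, 3, 2, 1, 4, 0, 7, 3, 2, 1, 5, 6, 3, 8, 4, 3, 5, 7, 8, 5, 6]),
  (1720, [5, 1, 2, 0, 8, 3, 4, 1, 2, 6, 3, 4, 7, 3, 8, 2, 4, 1, 3, 0, 8, 2, 1, 5, 4, 3, 2, 7, 8, 7, 4]),
  (1734, [7, 5, 1, 2, 0, 4, 8, 1, 3, 4, 6, 2, 7, 3, 2, 1, 4, 0, 7, 3, 2, 1, 8, 3, 5, 7, 4, 3, 2]),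
  (1737, [1, 3, 8, 2, 7, 0, 1, 3, 4, 7, 2, 3, 7, 4, 2, 1, 3, 2, 0, 1, 5, 6]),
  (1740, [5, 1, 2, 0, 8, 3, 4, 1, 2, 6, 3, 4, 7, 3, 8, 2, 4, 1, 3, 0, 8, 2, 1, 5, 6, 4, 5, 3, 4, 2, 8]),
  (1741, [3, 5, 4, 6, 1, 3, 2, 8, 0, 3, 1, 2, 7, 5, 4, 3, 2, 0, 7, 4, 3, 5, 1, 2, 0, 1, 7, 4, 3, 5, 6, 7]),
  (1742, [3, 5, 4, 6, 1, 3, 2, 8, 0, 3, 1, 2, 7, 5, 4, 3, 2, 0, 7, 4, 3, 5, 1, 2, 0, 1, 4, 3, 8, 5, 6, 7]),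
  (1743, [5, 6, 3, 4, 5, 6, 1, 2, 3, 0, 1, 2, 4, 8, 7, 3, 6, 2, 1, 4, 0, 7, 3, 2, 1, 5, 3, 6, 4, 3]),
  (1744, [5, 6, 3, 4, 5, 6, 1, 2, 3, 0, 1, 2, 4, 8, 7, 3, 6, 2, 1, 4, 0, 7, 3, 2, 1, 5, 6, 3, 4]),
  (1756, [3, 5, 6, 4, 5, 2, 1, 3, 8, 2, 7, 0, 1, 3, 4, 7, 2, 3, 7, 4, 2, 1, 3, 2, 0, 1, 5, 3]),
  (1757, [3, 5, 6, 4, 5, 2, 1, 3, 8, 2, 7, 0, 1, 3, 4, 7, 2, 3, 7, 4, 2, 1, 3, 2, 0, 1, 5]),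
  (1758, [5, 6, 3, 4, 2, 1, 3, 2, 8, 0, 3, 1, 2, 7, 5, 4, 3, 2, 0, 7, 4, 3, 5, 1, 2, 0, 1, 4, 7]),
  (1759, [3, 5, 4, 6, 1, 3, 2, 8, 0, 3, 1, 2, 7, 5, 4, 3, 2, 0, 7, 4, 3, 5, 1, 2, 0, 1, 7, 4, 3]),
  (1760, [3, 5, 4, 6, 1, 3, 2, 8, 0, 3, 1, 2, 7, 5, 4, 3, 2, 0, 7, 4, 3, 5, 1, 2, 0, 1, 4, 2, 5, 7, 3, 7]),
  (1761, [3, 5, 4, 6, 1, 3, 2, 8, 0, 3, 1, 2, 7, 5, 4, 3, 2, 0, 7, 4, 3, 5, 1, 2, 0, 1, 4, 2, 8, 3, 7, 8]),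
  (1762, [1, 2, 0, 8, 3, 4, 1, 2, 6, 3, 4, 7, 3, 8, 2, 4, 1, 3, 0, 8, 2, 1, 5, 6, 4, 5, 6, 3, 7, 4, 3]),
  (1763, [3, 5, 1, 2, 0, 4, 8, 1, 3, 4, 6, 2, 7, 3, 2, 1, 4, 0, 7, 3, 2, 1, 2, 5, 7, 3, 2, 8]),
  (1765, [5, 7, 1, 2, 0, 8, 3, 4, 1, 2, 6, 3, 4, 7, 3, 8, 2, 4, 1, 3, 0, 8, 2, 1, 5, 4]),
  (1766, [5, 7, 1, 2, 0, 8, 3, 4, 1, 2, 6, 3, 4, 7, 3, 8, 2, 4, 1, 3, 0, 8, 2, 1, 5, 4, 3]),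
  (1788, [3, 8, 7, 5, 4, 6, 1, 3, 2, 8, 0, 3, 1, 2, 7, 5, 4, 3, 2, 0, 7, 4, 3, 5, 1, 2, 0, 1, 4]),
  (1789, [3, 8, 7, 5, 4, 6, 1, 3, 2, 8, 0, 3, 1, 2, 7, 5, 4, 3, 2, 0, 7, 4, 3, 5, 1, 2, 0, 1, 7, 4, 3]),
  (1790, [7, 5, 7, 1, 2, 0, 8, 3, 4, 1, 2, 6, 3, 4, 7, 3, 8, 2, 4, 1, 3, 0, 8, 2, 1, 5, 4, 3, 4, 7, 2]),
  (1791, [3, 5, 1, 2, 0, 8, 3, 4, 1, 2, 6, 3, 4, 7, 3, 8, 2, 4, 1, 3, 0, 8, 2, 1, 5, 4, 3, 2, 7, 3]),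
  (1792, [3, 8, 7, 5, 4, 6, 1, 3, 2, 8, 0, 3, 1, 2, 7, 5, 4, 3, 2, 0, 7, 4, 3, 5, 1, 2, 0, 1, 4, 5, 8]),
  (1843, [3, 5, 1, 2, 0, 4, 8, 1, 3, 4, 6, 2, 7, 3, 2, 1, 4, 0, 7, 3, 2, 1, 5, 4, 2, 8, 3, 7]),
  (1844, [5, 1, 2, 0, 8, 3, 4, 1, 2, 6, 3, 4, 7, 3, 8, 2, 4, 1, 3, 0, 8, 2, 1, 5, 4, 5, 3, 6, 4, 7]),
  (1845, [5, 1, 2, 0, 4, 8, 1, 3, 4, 6, 2, 7, 3, 2, 1, 4, 0, 7, 3, 2, 1, 5, 7, 4, 3, 5, 6, 5, 7]),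
  (1851, [5, 3, 8, 4, 6, 7, 3, 5, 1, 8, 2, 8, 1, 3, 0, 4, 7, 1, 2, 3, 2, 1, 0, 7, 3, 4, 3, 2, 1, 8, 5, 3, 6]),
  (1852, [5, 3, 8, 4, 6, 7, 5, 3, 1, 2, 0, 4, 8, 1, 3, 4, 6, 2, 7, 3, 2, 1, 4, 0, 7, 3, 2, 1, 8, 5, 6, 2]),
  (1853, [5, 3, 8, 4, 6, 7, 5, 3, 1, 2, 0, 4, 8, 1, 3, 4, 6, 2, 7, 3, 2, 1, 4, 0, 7, 3, 2, 1, 8, 5, 6, 2, 4]),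
  (1854, [5, 1, 2, 0, 8, 3, 4, 1, 2, 6, 3, 4, 7, 3, 8, 2, 4, 1, 3, 0, 8, 2, 1, 5, 4, 8, 3, 6, 2, 8, 7, 4, 3, 5, 8]),
  (1855, [5, 3, 1, 2, 0, 8, 3, 4, 1, 2, 6, 3, 4, 7, 3, 8, 2, 4, 1, 3, 0, 8, 2, 1, 5, 6, 4, 5, 3, 2, 7, 8]),
  (1856, [5, 3, 1, 2, 0, 8, 3, 4, 1, 2, 6, 3, 4, 7, 3, 8, 2, 4, 1, 3, 0, 8, 2, 1, 5, 6, 4, 5, 3, 8, 2, 7, 8]),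
  (1857, [5, 3, 1, 2, 0, 8, 3, 4, 1, 2, 6, 3, 4, 7, 3, 8, 2, 4, 1, 3, 0, 8, 2, 1, 5, 6, 4, 5, 3, 8, 2, 7]),
  (1858, [3, 5, 4, 6, 1, 3, 2, 8, 0, 3, 1, 2, 7, 5, 4, 3, 2, 0, 7, 4, 3, 5, 1, 2, 0, 1, 2, 6, 7, 3, 4]),
  (1859, [3, 5, 4, 6, 1, 3, 2, 8, 0, 3, 1, 2, 7, 5, 4, 3, 2, 0, 7, 4, 3, 5, 1, 2, 0, 1, 2, 6, 7, 3, 2, 4]),
  (1882, [5, 1, 2, 0, 8, 3, 4, 1, 2, 6, 3, 4, 7, 3, 8, 2, 4, 1, 3, 0, 8, 2, 1, 5, 4, 8, 3, 6, 5, 6, 7]),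
  (1911, [5, 3, 8, 4, 6, 7, 5, 6, 3, 4, 2, 3, 6, 4, 7, 8]),
  (1960, [5, 1, 2, 0, 8, 3, 4, 1, 2, 6, 3, 4, 7, 3, 8, 2, 4, 1, 3, 0, 8, 2, 1, 5, 4, 8, 3, 2, 6, 7, 5, 4]),
  (1961, [5, 1, 2, 0, 4, 8, 1, 3, 4, 6, 2, 7, 3, 2, 1, 4, 0, 7, 3, 2, 1, 5, 7, 4, 3, 5, 6, 5, 7, 4, 2, 7]),
  (1962, [5, 1, 2, 0, 8, 3, 4, 1, 2, 6, 3, 4, 7, 3, 8, 2, 4, 1, 3, 0, 8, 2, 1, 5, 6, 4, 5, 3, 2, 4, 3]),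
  (1963, [5, 3, 8, 6, 4]),
  (1964, [8, 5, 3, 6]),
  (1965, [2, 4, 8, 3, 7]),
  (1968, [5, 1, 2, 0, 4, 8, 1, 3, 4, 6, 2, 7, 3, 2, 1, 4, 0, 7, 3, 2, 1, 4, 8, 5, 4]),
  (1976, [3, 1, 2, 0, 8, 3, 4, 1, 2, 6, 3, 4, 7, 3, 8, 2, 4, 1, 3, 0, 8, 2, 1, 5, 6, 4, 5, 3]),
  (1981, [1, 2, 0, 4, 8, 1, 3, 4, 6, 2, 7, 3, 2, 1, 4, 0, 7, 3, 2, 1, 5, 3, 6]),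
  (1983, [3, 5, 1, 2, 0, 4, 8, 1, 3, 4, 6, 2, 7, 3, 2, 1, 4, 0, 7, 3, 2, 1, 5, 8, 4, 8]),
  (1989, [3, 5, 1, 2, 0, 4, 8, 1, 3, 4, 6, 2, 7, 3, 2, 1, 4, 0, 7, 3, 2, 1, 2, 7, 5, 3, 4]),
  (1997, [5, 1, 2, 0, 8, 3, 4, 1, 2, 6, 3, 4, 7, 3, 8, 2, 4, 1, 3, 0, 8, 2, 1, 5, 4, 8, 5, 7, 3]),
  (1998, [5, 1, 2, 0, 8, 3, 4, 1, 2, 6, 3, 4, 7, 3, 8, 2, 4, 1, 3, 0, 8, 2, 1, 5, 6, 4, 5, 3, 7, 4, 3]),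
  (2022, [5, 6, 3, 4, 5, 6, 1, 2, 3, 0, 1, 2, 4, 8, 7, 3, 6, 2, 1, 4, 0, 7, 3, 2, 1, 5, 6, 3, 4, 5, 3]),
  (2024, [5, 1, 2, 0, 4, 8, 1, 3, 4, 6, 2, 7, 3, 2, 1, 4, 0, 7, 3, 2, 1, 5, 4, 2, 8, 3, 2, 5, 7]),
  (2025, [5, 1, 2, 0, 4, 8, 1, 3, 4, 6, 2, 7, 3, 2, 1, 4, 0, 7, 3, 2, 1, 7, 8]),
  (2026, [5, 1, 2, 0, 4, 8, 1, 3, 4, 6, 2, 7, 3, 2, 1, 4, 0, 7, 3, 2, 1, 5, 2]),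
  (2031, [7, 5, 1, 2, 0, 4, 8, 1, 3, 4, 6, 2, 7, 3, 2, 1, 4, 0, 7, 3, 2, 1, 2, 5, 8, 4, 7, 5, 8, 3, 7]),
  (2032, [7, 5, 1, 2, 0, 4, 8, 1, 3, 4, 6, 2, 7, 3, 2, 1, 4, 0, 7, 3, 2, 1, 2, 5, 8, 4, 7, 3, 8, 2, 7, 3]),
  (2033, [2, 5, 1, 2, 0, 8, 3, 4, 1, 2, 6, 3, 4, 7, 3, 8, 2, 4, 1, 3, 0, 8, 2, 1, 5, 6, 4, 5, 3, 2, 7]),
  (2034, [2, 5, 1, 2, 0, 8, 3, 4, 1, 2, 6, 3, 4, 7, 3, 8, 2, 4, 1, 3, 0, 8, 2, 1, 5, 6, 4, 3, 7, 2]),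
  (2097, [5, 1, 2, 8, 3, 4, 0, 7, 3, 4, 6, 2, 1, 4, 3, 2, 7, 4, 0, 3, 7, 4, 3, 2, 1, 5, 3, 8, 4, 6, 7]),
  (2104, [5, 6, 3, 8, 7, 1, 8, 2, 3, 0, 1, 6, 7, 2, 4, 3, 6, 2, 1, 4, 0, 7, 3, 2, 1]),
  (2125, [5, 4, 6, 1, 3, 2, 8, 0, 3, 1, 2, 7, 5, 4, 3, 2, 0, 7, 4, 3, 5, 1, 2, 0, 1, 7, 4, 3, 2, 8, 3, 7]),
  (2130, [5, 3, 1, 2, 0, 8, 3, 4, 1, 2, 6, 3, 4, 7, 3, 8, 2, 4, 1, 3, 0, 8, 2, 1, 5, 6, 4, 3, 7, 2]),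
  (2131, [5, 1, 2, 0, 8, 3, 4, 1, 2, 6, 3, 4, 7, 3, 8, 2, 4, 1, 3, 0, 8, 2, 1, 5, 4, 5, 3, 6, 4, 2, 7, 3]),
  (2132, [5, 3, 8, 4, 6, 7, 3, 5, 1, 8, 2, 8, 1, 3, 0, 4, 7, 1, 2, 3, 2, 1, 0, 7, 3, 4, 3, 2, 1, 5]),
  (2142, [5, 1, 2, 0, 8, 3, 4, 1, 2, 6, 3, 4, 7, 3, 8, 2, 4, 1, 3, 0, 8, 2, 1, 5, 4, 3, 4, 7, 4, 8, 7, 5, 3, 8]),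
  (2148, [5, 3, 1, 2, 0, 8, 3, 4, 1, 2, 6, 3, 4, 7, 3, 8, 2, 4, 1, 3, 0, 8, 2, 1, 5, 6, 4, 5, 3, 2]),
  (2149, [7, 5, 1, 2, 0, 4, 8, 1, 3, 4, 6, 2, 7, 3, 2, 1, 4, 0, 7, 3, 2, 1, 2, 5, 2, 4, 8, 3, 7, 3, 4]),
  (2150, [5, 6, 3, 4, 5, 6, 1, 2, 3, 0, 1, 2, 4, 8, 7, 3, 6, 2, 1, 4, 0, 7, 3, 2, 1, 5, 3, 6, 4, 3, 2, 4]),
  (2151, [3, 5, 4, 6, 1, 3, 2, 8, 0, 3, 1, 2, 7, 5, 4, 3, 2, 0, 7, 4, 3, 5, 1, 2, 0, 1, 4, 2, 8, 3, 7]),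
  (2152, [5, 4, 6, 1, 3, 2, 8, 0, 3, 1, 2, 7, 5, 4, 3, 2, 0, 7, 4, 3, 5, 1, 2, 0, 1, 7, 4, 3, 2, 5]),
  (2156, [5, 6, 3, 4, 5, 6, 1, 2, 3, 0, 1, 2, 4, 8, 7, 3, 6, 2, 1, 4, 0, 7, 3, 2, 1, 5, 3, 6]),
  (2162, [5, 1, 2, 0, 4, 8, 1, 3, 4, 6, 2, 7, 3, 2, 1, 4, 0, 7, 3, 2, 1, 5, 6, 3, 8, 4, 3, 2, 5]),
  (2163, [3, 8, 7, 5, 4, 6, 1, 3, 2, 8, 0, 3, 1, 2, 7, 5, 4, 3, 2, 0, 7, 4, 3, 5, 1, 2, 0, 1, 2, 4, 3]),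
  (2171, [5, 1, 2, 0, 8, 3, 4, 1, 2, 6, 3, 4, 7, 3, 8, 2, 4, 1, 3, 0, 8, 2, 1, 5, 4, 3, 4, 7, 5]),
  (2179, [8, 3, 5, 7, 4, 3, 2, 5, 1, 2, 0, 4, 8, 1, 3, 4, 6, 2, 7, 3, 2, 1, 4, 0, 7, 3, 2, 1]),
  (2183, [2, 5, 1, 2, 0, 8, 3, 4, 1, 2, 6, 3, 4, 7, 3, 8, 2, 4, 1, 3, 0, 8, 2, 1, 5, 4, 5, 3, 6, 4, 2, 7, 3]),
  (2184, [5, 3, 8, 4, 6, 7, 3, 5, 4, 2, 1, 3, 8, 2, 7, 0, 1, 3, 4, 7, 2, 3, 7, 4, 2, 1, 3, 2, 0, 1, 5, 6]),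
  (2185, [2, 5, 1, 2, 0, 8, 3, 4, 1, 2, 6, 3, 4, 7, 3, 8, 2, 4, 1, 3, 0, 8, 2, 1, 5, 4, 3, 2, 7, 3, 4]),
  (2186, [5, 1, 2, 0, 8, 3, 4, 1, 2, 6, 3, 4, 7, 3, 8, 2, 4, 1, 3, 0, 8, 2, 1, 5, 4, 3, 2, 7, 3, 4]),
  (2192, [2, 6, 1, 3, 0, 7, 2, 3, 7, 5, 6, 1, 4, 3, 2, 1, 3, 4, 7, 3, 7, 5, 2, 0, 1, 4, 5, 8, 3, 7]),
  (2193, [7, 5, 1, 2, 0, 4, 8, 1, 3, 4, 6, 2, 7, 3, 2, 1, 4, 0, 7, 3, 2, 1, 2, 5, 8, 4, 7, 3, 8, 4, 7]),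
  (2195, [3, 5, 1, 2, 0, 8, 3, 4, 1, 2, 6, 3, 4, 7, 3, 8, 2, 4, 1, 3, 0, 8, 2, 1, 5, 4, 3, 2, 5]),
  (2200, [2, 5, 1, 2, 0, 8, 3, 4, 1, 2, 6, 3, 4, 7, 3, 8, 2, 4, 1, 3, 0, 8, 2, 1, 5, 4, 5, 3, 6, 2, 5, 7, 3]),
  (2201, [2, 5, 1, 2, 0, 8, 3, 4, 1, 2, 6, 3, 4, 7, 3, 8, 2, 4, 1, 3, 0, 8, 2, 1, 5, 4, 3, 2, 7, 3]),
  (2202, [5, 1, 2, 0, 8, 3, 4, 1, 2, 6, 3, 4, 7, 3, 8, 2, 4, 1, 3, 0, 8, 2, 1, 5, 4, 3, 2, 7, 3]),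
  (2205, [5, 1, 2, 0, 8, 3, 4, 1, 2, 6, 3, 4, 7, 3, 8, 2, 4, 1, 3, 0, 8, 2, 1, 5, 4, 3, 7, 2, 4, 7]),
  (2209, [5, 1, 2, 8, 3, 4, 0, 7, 3, 4, 6, 2, 1, 4, 3, 2, 7, 4, 0, 3, 7, 4, 3, 2, 1, 5, 7, 4, 3, 8, 7, 3, 2, 5]),
  (2210, [5, 3, 1, 2, 0, 8, 3, 4, 1, 2, 6, 3, 4, 7, 3, 8, 2, 4, 1, 3, 0, 8, 2, 1, 5, 6, 4, 5, 3, 2, 7, 3]),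
  (2213, [5, 1, 2, 0, 8, 3, 4, 1, 2, 6, 3, 4, 7, 3, 8, 2, 4, 1, 3, 0, 8, 2, 1, 5, 4, 5, 3, 6, 4, 2]),
  (2214, [5, 1, 2, 8, 3, 4, 0, 7, 3, 4, 6, 2, 1, 4, 3, 2, 7, 4, 0, 3, 7, 4, 3, 2, 1, 5, 3, 8, 4, 6, 2, 3]),
  (2215, [5, 1, 2, 0, 8, 3, 4, 1, 2, 6, 3, 4, 7, 3, 8, 2, 4, 1, 3, 0, 8, 2, 1, 5, 6, 4, 8, 7]),
  (2229, [7, 5, 1, 2, 0, 4, 8, 1, 3, 4, 6, 2, 7, 3, 2, 1, 4, 0, 7, 3, 2, 1, 2, 8, 7, 3, 5]),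
  (2232, [5, 1, 2, 0, 8, 3, 4, 1, 2, 6, 3, 4, 7, 3, 8, 2, 4, 1, 3, 0, 8, 2, 1, 5, 4, 3, 4, 7, 3, 5]),
  (2233, [5, 6, 3, 4, 5, 6, 2, 1, 3, 8, 2, 7, 0, 1, 3, 4, 7, 2, 3, 7, 4, 2, 1, 3, 2, 0, 1, 5, 3, 4]),
  (2234, [5, 3, 8, 6, 4, 5, 7, 0, 2, 1, 3, 8, 2, 7, 0, 1, 3, 4, 7, 2, 3, 7, 4, 2, 1, 3, 2, 0, 1]),
  (2260, [5, 1, 2, 0, 8, 3, 4, 1, 2, 6, 3, 4, 7, 3, 8, 2, 4, 1, 3, 0, 8, 2, 1, 5, 4, 8, 5, 6, 3, 4, 7]),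
  (2261, [5, 1, 2, 0, 4, 8, 1, 3, 4, 6, 2, 7, 3, 2, 1, 4, 0, 7, 3, 2, 1, 5, 7, 4, 8, 3, 7, 5, 6]),
  (2262, [5, 1, 2, 0, 8, 3, 4, 1, 2, 6, 3, 4, 7, 3, 8, 2, 4, 1, 3, 0, 8, 2, 1, 5, 4, 8, 6, 5, 7]),
  (2267, [5, 1, 2, 0, 8, 3, 4, 1, 2, 6, 3, 4, 7, 3, 8, 2, 4, 1, 3, 0, 8, 2, 1, 5, 4, 5, 3, 6, 2, 5, 7, 3, 4, 8]),
  (2268, [5, 1, 2, 0, 8, 3, 4, 1, 2, 6, 3, 4, 7, 3, 8, 2, 4, 1, 3, 0, 8, 2, 1, 5, 6, 4, 5, 3, 7, 2, 8]),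
  (2269, [5, 1, 2, 0, 8, 3, 4, 1, 2, 6, 3, 4, 7, 3, 8, 2, 4, 1, 3, 0, 8, 2, 1, 5, 6, 4, 5, 3, 7, 2, 4, 8]),
  (2270, [5, 3, 1, 2, 0, 8, 3, 4, 1, 2, 6, 3, 4, 7, 3, 8, 2, 4, 1, 3, 0, 8, 2, 1, 5, 6, 4, 5, 3, 2, 7, 8, 4]),
  (2271, [3, 5, 4, 6, 1, 3, 2, 8, 0, 3, 1, 2, 7, 5, 4, 3, 2, 0, 7, 4, 3, 5, 1, 2, 0, 1, 4, 5, 6, 7, 3, 8]),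
  (2272, [3, 5, 4, 6, 1, 3, 2, 8, 0, 3, 1, 2, 7, 5, 4, 3, 2, 0, 7, 4, 3, 5, 1, 2, 0, 1, 4, 5, 6, 7, 3]),
  (2319, [5, 1, 2, 0, 8, 3, 4, 1, 2, 6, 3, 4, 7, 3, 8, 2, 4, 1, 3, 0, 8, 2, 1, 5, 6, 4, 5, 3, 4, 2, 5, 7, 2]),
  (2343, [5, 1, 2, 0, 8, 3, 4, 1, 2, 6, 3, 4, 7, 3, 8, 2, 4, 1, 3, 0, 8, 2, 1, 5, 6, 4, 5, 3, 4, 2, 5, 7]),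
  (2344, [2, 7, 5, 1, 2, 0, 4, 8, 1, 3, 4, 6, 2, 7, 3, 2, 1, 4, 0, 7, 3, 2, 1, 2, 8, 7, 3, 5, 7, 4, 3, 2]),
  (2383, [5, 3, 8, 6, 4, 5, 7]),
  (2384, [5, 3, 8, 4, 6, 7, 5, 3]),
  (2385, [5, 3, 8, 4, 6, 7, 3, 5, 4]),
  (2407, [8, 5, 3, 6, 7, 4, 3, 7, 5, 1, 2, 0, 4, 8, 1, 3, 4, 6, 2, 7, 3, 2, 1, 4, 0, 7, 3, 2, 1, 2, 3]),
  (2408, [5, 3, 8, 4, 6, 7, 3, 5, 4, 2, 1, 3, 8, 2, 7, 0, 1, 3, 4, 7, 2, 3, 7, 4, 2, 1, 3, 2, 0, 1]),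
  (2427, [5, 1, 2, 0, 8, 3, 4, 1, 2, 6, 3, 4, 7, 3, 8, 2, 4, 1, 3, 0, 8, 2, 1, 5, 4, 8, 3, 2, 6, 7, 3]),
  (2428, [5, 1, 2, 0, 8, 3, 4, 1, 2, 6, 3, 4, 7, 3, 8, 2, 4, 1, 3, 0, 8, 2, 1, 5, 6, 4, 5, 8, 3, 5, 4, 2, 7]),
  (2451, [5, 1, 2, 0, 4, 8, 1, 3, 4, 6, 2, 7, 3, 2, 1, 4, 0, 7, 3, 2, 1, 5, 7, 4, 8, 3, 7, 3, 5, 4]),
  (2455, [5, 3, 1, 2, 0, 8, 3, 4, 1, 2, 6, 3, 4, 7, 3, 8, 2, 4, 1, 3, 0, 8, 2, 1, 5, 6, 4, 5, 3, 2, 4, 3]),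
  (2456, [5, 4, 6, 1, 3, 2, 8, 0, 3, 1, 2, 7, 5, 4, 3, 2, 0, 7, 4, 3, 5, 1, 2, 0, 1, 7, 4, 3, 2, 7, 3, 6, 5, 7]),
  (2457, [5, 4, 6, 1, 3, 2, 8, 0, 3, 1, 2, 7, 5, 4, 3, 2, 0, 7, 4, 3, 5, 1, 2, 0, 1, 7, 4, 3, 2, 7, 3, 6]),
  (2460, [5, 1, 2, 0, 4, 8, 1, 3, 4, 6, 2, 7, 3, 2, 1, 4, 0, 7, 3, 2, 1, 5, 3, 8, 4, 6, 7, 5, 3, 2]),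
  (2469, [5, 3, 8, 4, 6, 7, 3, 5, 1, 8, 2, 8, 1, 3, 0, 4, 7, 1, 2, 3, 2, 1, 0, 7, 3, 4, 3, 2, 1]),
  (2470, [5, 3, 8, 4, 6, 7, 5, 3, 2, 1, 2, 0, 4, 8, 1, 3, 4, 6, 2, 7, 3, 2, 1, 4, 0, 7, 3, 2, 1, 5, 8]),
  (2471, [5, 1, 2, 0, 8, 3, 4, 1, 2, 6, 3, 4, 7, 3, 8, 2, 4, 1, 3, 0, 8, 2, 1, 5, 4, 3, 2, 7, 3, 4, 8]),
  (2475, [5, 1, 2, 0, 8, 3, 4, 1, 2, 6, 3, 4, 7, 3, 8, 2, 4, 1, 3, 0, 8, 2, 1, 5, 4, 8, 6, 5, 8, 3, 7, 4, 8, 5]),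
  (2476, [5, 1, 2, 0, 8, 3, 4, 1, 2, 6, 3, 4, 7, 3, 8, 2, 4, 1, 3, 0, 8, 2, 1, 5, 4, 3, 4, 7, 4, 8, 7, 5, 3, 4]),
  (2492, [5, 3, 1, 2, 0, 8, 3, 4, 1, 2, 6, 3, 4, 7, 3, 8, 2, 4, 1, 3, 0, 8, 2, 1, 5, 4, 7, 5, 8, 3, 7, 2, 8]),
  (2493, [5, 1, 2, 0, 4, 8, 1, 3, 4, 6, 2, 7, 3, 2, 1, 4, 0, 7, 3, 2, 1, 5, 3, 8, 4, 6, 7, 5, 3, 2, 5, 7, 3, 8]),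
  (2494, [3, 8, 7, 5, 4, 6, 1, 3, 2, 8, 0, 3, 1, 2, 7, 5, 4, 3, 2, 0, 7, 4, 3, 5, 1, 2, 0, 1, 4, 5, 8, 5, 6]),
  (2495, [5, 1, 2, 0, 8, 3, 4, 1, 2, 6, 3, 4, 7, 3, 8, 2, 4, 1, 3, 0, 8, 2, 1, 5, 4, 3, 7, 2, 4, 8, 5, 6]),
  (2496, [5, 4, 6, 1, 3, 2, 8, 0, 3, 1, 2, 7, 5, 4, 3, 2, 0, 7, 4, 3, 5, 1, 2, 0, 1, 7, 4, 3, 2, 7, 4, 8]),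
  (2507, [5, 1, 2, 0, 4, 8, 1, 3, 4, 6, 2, 7, 3, 2, 1, 4, 0, 7, 3, 2, 1, 5, 6, 3, 8, 4, 3, 5, 7, 8, 5, 2]),
  (2508, [5, 1, 2, 0, 4, 8, 1, 3, 4, 6, 2, 7, 3, 2, 1, 4, 0, 7, 3, 2, 1, 5, 6, 3, 8, 4, 3, 2, 7, 3, 8]),
  (2509, [8, 5, 3, 6, 7, 4, 5, 6, 1, 2, 3, 0, 1, 2, 4, 8, 7, 3, 6, 2, 1, 4, 0, 7, 3, 2, 1, 5, 3, 8, 4, 6]),
  (2530, [5, 1, 2, 0, 8, 3, 4, 1, 2, 6, 3, 4, 7, 3, 8, 2, 4, 1, 3, 0, 8, 2, 1, 5, 6, 4, 5, 3, 7, 2, 4, 8, 7]),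
  (2531, [5, 6, 3, 4, 5, 6, 1, 2, 3, 0, 1, 2, 4, 8, 7, 3, 6, 2, 1, 4, 0, 7, 3, 2, 1, 5, 6, 7, 4, 8, 2, 5]),
  (2532, [5, 6, 3, 4, 5, 6, 1, 2, 3, 0, 1, 2, 4, 8, 7, 3, 6, 2, 1, 4, 0, 7, 3, 2, 1, 5, 6, 7, 4, 8]),
  (2549, [5, 6, 3, 8, 7]),
  (2550, [5, 3, 8, 4, 6, 7]),
  (2551, [3, 5, 4, 8, 6, 5]),
  (2630, [5, 3, 8, 4, 6, 7, 5, 3, 2]),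
  (2631, [5, 3, 8, 4, 6, 7, 5, 3, 2, 4]),
  (2641, [5, 3, 4, 8, 7, 6, 3, 2]),
  (2642, [8, 5, 3, 6, 7, 4, 3]),
  (2666, [5, 3, 8, 4, 6, 7, 5, 3, 2, 4, 3]),
  (2667, [5, 3, 8, 4, 6, 7, 3, 5, 4, 2, 7, 3, 7, 2]),
  (2713, [5, 1, 2, 0, 8, 3, 4, 1, 2, 6, 3, 4, 7, 3, 8, 2, 4, 1, 3, 0, 8, 2, 1, 5, 6, 4, 5, 3, 4, 2, 5]),
  (2722, [5, 1, 2, 0, 8, 3, 4, 1, 2, 6, 3, 4, 7, 3, 8, 2, 4, 1, 3, 0, 8, 2, 1, 5, 4, 8, 3, 5, 2]),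
  (2739, [5, 1, 2, 0, 4, 8, 1, 3, 4, 6, 2, 7, 3, 2, 1, 4, 0, 7, 3, 2, 1, 5, 6, 3, 8, 4, 3, 2, 7, 3]),
  (2761, [3, 5, 6, 4, 5, 8, 6, 1, 7, 2, 3, 0, 6, 2, 1, 2, 4, 6, 7, 3, 4, 6, 5, 7, 2, 1, 6, 3, 0, 2, 1, 4, 2, 5]),
  (2762, [5, 1, 2, 0, 8, 3, 4, 1, 2, 6, 3, 4, 7, 3, 8, 2, 4, 1, 3, 0, 8, 2, 1, 5, 4, 8, 6, 5, 3, 7, 2]),
  (2792, [5, 1, 2, 0, 4, 8, 1, 3, 4, 6, 2, 7, 3, 2, 1, 4, 0, 7, 3, 2, 1, 5, 3, 8, 4, 6, 7, 5, 3, 2, 5, 7]),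
  (2796, [5, 3, 8, 4, 6, 7, 5, 3, 1, 2, 0, 4, 8, 1, 3, 4, 6, 2, 7, 3, 2, 1, 4, 0, 7, 3, 2, 1, 5, 6]),
  (2814, [5, 3, 8, 6, 4, 5, 7, 1, 2, 0, 8, 3, 4, 1, 2, 6, 3, 4, 7, 3, 8, 2, 4, 1, 3, 0, 8, 2, 1, 5, 4, 8, 3]),
  (2815, [5, 6, 3, 4, 5, 6, 1, 2, 3, 0, 1, 2, 4, 8, 7, 3, 6, 2, 1, 4, 0, 7, 3, 2, 1, 2, 5, 7, 4, 8]),
  (2871, [5, 3, 1, 2, 0, 8, 3, 4, 1, 2, 6, 3, 4, 7, 3, 8, 2, 4, 1, 3, 0, 8, 2, 1, 5, 4, 3, 4, 2, 7, 3, 8, 5, 6]),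
  (2872, [5, 1, 2, 0, 8, 3, 4, 1, 2, 6, 3, 4, 7, 3, 8, 2, 4, 1, 3, 0, 8, 2, 1, 5, 4, 8, 3, 2, 6, 7, 8, 7]),
  (2873, [5, 1, 2, 0, 8, 3, 4, 1, 2, 6, 3, 4, 7, 3, 8, 2, 4, 1, 3, 0, 8, 2, 1, 5, 4, 8, 3, 2, 6, 7, 8]),
  (2893, [5, 6, 3, 4, 5, 6, 2, 1, 3, 8, 2, 7, 0, 1, 3, 4, 7, 2, 3, 7, 4, 2, 1, 3, 2, 0, 1, 5, 3, 4, 8, 7]),
  (2894, [3, 5, 4, 6, 1, 3, 2, 8, 0, 3, 1, 2, 7, 5, 4, 3, 2, 0, 7, 4, 3, 5, 1, 2, 0, 1, 2, 6, 7, 3, 4, 5, 8, 7, 2]),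
  (2895, [8, 5, 3, 6, 7, 4, 5, 6, 1, 2, 3, 0, 1, 2, 4, 8, 7, 3, 6, 2, 1, 4, 0, 7, 3, 2, 1, 5, 3, 8, 4, 6, 7, 2]),
  (2896, [5, 6, 3, 4, 5, 6, 2, 1, 3, 8, 2, 7, 0, 1, 3, 4, 7, 2, 3, 7, 4, 2, 1, 3, 2, 0, 1, 5, 3, 4, 8, 5, 7]),
  (2897, [5, 6, 3, 4, 5, 6, 2, 1, 3, 8, 2, 7, 0, 1, 3, 4, 7, 2, 3, 7, 4, 2, 1, 3, 2, 0, 1, 5, 3, 4, 8, 5]),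
  (2920, [5, 1, 2, 0, 8, 3, 4, 1, 2, 6, 3, 4, 7, 3, 8, 2, 4, 1, 3, 0, 8, 2, 1, 5, 4, 3, 2, 7, 3, 8, 3, 5, 7, 4, 3]),
  (2927, [8, 5, 3, 6, 7, 4, 5, 6, 1, 2, 3, 0, 1, 2, 4, 8, 7, 3, 6, 2, 1, 4, 0, 7, 3, 2, 1, 5, 3, 8, 4, 6, 7]),
  (2928, [3, 5, 6, 4, 5, 2, 1, 3, 8, 2, 7, 0, 1, 3, 4, 7, 2, 3, 7, 4, 2, 1, 3, 2, 0, 1, 8, 5, 3, 6, 7, 4, 3]),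
  (2929, [3, 5, 6, 4, 5, 2, 1, 3, 8, 2, 7, 0, 1, 3, 4, 7, 2, 3, 7, 4, 2, 1, 3, 2, 0, 1, 8, 5, 3, 6, 7, 4, 3, 2, 4]),
  (2975, [7, 5, 7, 1, 2, 0, 8, 3, 4, 1, 2, 6, 3, 4, 7, 3, 8, 2, 4, 1, 3, 0, 8, 2, 1, 5, 4, 3, 4, 7, 4, 3, 8, 7]),
  (2976, [1, 2, 3, 8, 7, 2, 5, 6, 7, 1, 7, 1, 0, 5, 1, 4, 3, 7, 2, 3, 4, 1, 5, 0, 7, 3, 2, 4, 1, 5, 3, 4, 8, 7, 3, 8]),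
  (3012, [5, 1, 2, 0, 8, 3, 4, 1, 2, 6, 3, 4, 7, 3, 8, 2, 4, 1, 3, 0, 8, 2, 1, 5, 6, 4, 5, 3, 7, 2, 8, 2]),
  (3018, [5, 6, 3, 4, 2, 1, 3, 2, 8, 0, 3, 1, 2, 7, 5, 4, 3, 2, 0, 7, 4, 3, 5, 1, 2, 0, 1, 4, 7, 3, 8, 7]),
  (3019, [5, 3, 1, 2, 0, 8, 3, 4, 1, 2, 6, 3, 4, 7, 3, 8, 2, 4, 1, 3, 0, 8, 2, 1, 5, 4, 7, 5, 8, 3, 7, 4, 8]),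
  (3055, [5, 3, 8, 4, 6, 7, 3, 5, 1, 8, 2, 8, 1, 3, 0, 4, 7, 1, 2, 3, 2, 1, 0, 7, 3, 4, 3, 2, 1, 8, 7, 5, 3, 4, 8]),
  (3056, [5, 6, 3, 4, 5, 6, 2, 1, 3, 8, 2, 7, 0, 1, 3, 4, 7, 2, 3, 7, 4, 2, 1, 3, 2, 0, 1, 5, 3, 4, 8, 2, 7, 3]),
  (3057, [3, 8, 7, 5, 4, 6, 1, 3, 2, 8, 0, 3, 1, 2, 7, 5, 4, 3, 2, 0, 7, 4, 3, 5, 1, 2, 0, 1, 4, 5, 8, 5, 7]),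
  (3058, [3, 5, 1, 2, 0, 8, 3, 4, 1, 2, 6, 3, 4, 7, 3, 8, 2, 4, 1, 3, 0, 8, 2, 1, 5, 4, 3, 2, 7, 3, 5, 8]),
  (3060, [7, 5, 7, 1, 2, 0, 8, 3, 4, 1, 2, 6, 3, 4, 7, 3, 8, 2, 4, 1, 3, 0, 8, 2, 1, 5, 4, 3, 4, 7, 4, 3, 8]),
  (3061, [5, 1, 2, 0, 8, 3, 4, 1, 2, 6, 3, 4, 7, 3, 8, 2, 4, 1, 3, 0, 8, 2, 1, 5, 4, 3, 4, 7, 4, 8, 2]),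
  (3079, [5, 1, 2, 0, 8, 3, 4, 1, 2, 6, 3, 4, 7, 3, 8, 2, 4, 1, 3, 0, 8, 2, 1, 5, 4, 3, 4, 7, 8, 3, 5]),
  (3080, [5, 4, 6, 1, 3, 2, 8, 0, 3, 1, 2, 7, 5, 4, 3, 2, 0, 7, 4, 3, 5, 1, 2, 0, 1, 7, 4, 3, 4, 7, 5, 3, 4, 8]),
  (3081, [3, 5, 4, 2, 5, 1, 2, 0, 8, 3, 4, 1, 2, 6, 3, 4, 7, 3, 8, 2, 4, 1, 3, 0, 8, 2, 1, 5, 4, 3, 2, 7, 8]),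
  (3090, [5, 1, 2, 0, 8, 3, 4, 1, 2, 6, 3, 4, 7, 3, 8, 2, 4, 1, 3, 0, 8, 2, 1, 5, 4, 8, 5, 6, 3, 4, 7, 8]),
  (3111, [3, 8, 7, 5, 4, 6, 1, 3, 2, 8, 0, 3, 1, 2, 7, 5, 4, 3, 2, 0, 7, 4, 3, 5, 1, 2, 0, 1]),
  (3116, [3, 8, 7, 5, 4, 6, 1, 3, 2, 8, 0, 3, 1, 2, 7, 5, 4, 3, 2, 0, 7, 4, 3, 5, 1, 2, 0, 1, 8]),
  (3119, [5, 3, 4, 8, 7, 6, 1, 3, 2, 8, 0, 3, 1, 2, 7, 5, 4, 3, 2, 0, 7, 4, 3, 5, 1, 2, 0, 1, 3, 8, 7]),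
  (3120, [5, 3, 4, 8, 7, 6, 1, 0, 2, 3, 5, 2, 6, 7, 8, 4, 3, 2, 6, 1, 2, 3, 7, 4, 8, 7, 3, 6, 2, 0, 1, 2, 5, 7, 3]),
  (3121, [5, 3, 8, 4, 6, 7, 5, 3, 1, 2, 0, 4, 8, 1, 3, 4, 6, 2, 7, 3, 2, 1, 4, 0, 7, 3, 2, 1, 8, 5, 6, 7, 3]),
  (3122, [5, 3, 8, 4, 6, 7, 5, 3, 1, 2, 0, 4, 8, 1, 3, 4, 6, 2, 7, 3, 2, 1, 4, 0, 7, 3, 2, 1, 5, 6, 5, 8, 3, 7]),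
  (3123, [5, 3, 8, 4, 6, 7, 5, 3, 1, 2, 0, 4, 8, 1, 3, 4, 6, 2, 7, 3, 2, 1, 4, 0, 7, 3, 2, 1, 8, 5, 6]),
  (3134, [5, 1, 2, 0, 8, 3, 4, 1, 2, 6, 3, 4, 7, 3, 8, 2, 4, 1, 3, 0, 8, 2, 1, 5, 4, 3, 2, 7, 3, 5, 8]),
  (3135, [8, 5, 3, 6, 7, 4, 3, 7, 5, 1, 2, 0, 4, 8, 1, 3, 4, 6, 2, 7, 3, 2, 1, 4, 0, 7, 3, 2, 1, 2, 3, 8]),
  (3136, [5, 3, 8, 4, 6, 7, 3, 5, 1, 8, 2, 8, 1, 3, 0, 4, 7, 1, 2, 3, 2, 1, 0, 7, 3, 4, 3, 2, 1, 8]),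
  (3137, [5, 3, 8, 4, 6, 7, 3, 5, 1, 8, 2, 8, 1, 3, 0, 4, 7, 1, 2, 3, 2, 1, 0, 7, 3, 4, 3, 2, 1, 8, 7]),
  (3138, [8, 5, 3, 6, 7, 4, 3, 8, 5, 1, 2, 0, 4, 8, 1, 3, 4, 6, 2, 7, 3, 2, 1, 4, 0, 7, 3, 2, 1, 3, 8, 7]),
  (3144, [5, 1, 2, 0, 8, 3, 4, 1, 2, 6, 3, 4, 7, 3, 8, 2, 4, 1, 3, 0, 8, 2, 1, 5, 6, 4, 5, 3, 7, 4, 8]),
  (3145, [5, 1, 2, 0, 8, 3, 4, 1, 2, 6, 3, 4, 7, 3, 8, 2, 4, 1, 3, 0, 8, 2, 1, 5, 6, 4, 5, 3, 7, 4, 3, 4, 8]),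
  (3150, [5, 1, 2, 0, 8, 3, 4, 1, 2, 6, 3, 4, 7, 3, 8, 2, 4, 1, 3, 0, 8, 2, 1, 5, 4, 8, 6, 7, 3, 2, 5, 7, 5, 8]),
  (3151, [5, 1, 2, 0, 8, 3, 4, 1, 2, 6, 3, 4, 7, 3, 8, 2, 4, 1, 3, 0, 8, 2, 1, 5, 4, 8, 3, 2, 6, 7, 3, 2, 8]),
  (3152, [5, 4, 6, 1, 3, 2, 8, 0, 3, 1, 2, 7, 5, 4, 3, 2, 0, 7, 4, 3, 5, 1, 2, 0, 1, 7, 4, 3, 4, 7, 4, 8, 5, 6]),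
  (3153, [5, 4, 6, 1, 3, 2, 8, 0, 3, 1, 2, 7, 5, 4, 3, 2, 0, 7, 4, 3, 5, 1, 2, 0, 1, 7, 4, 3, 4, 7, 4, 8, 7]),
  (3180, [5, 3, 8, 4, 6, 7, 5, 3, 1, 2, 0, 4, 8, 1, 3, 4, 6, 2, 7, 3, 2, 1, 4, 0, 7, 3, 2, 1, 3, 8, 5]),
  (3181, [5, 6, 3, 4, 5, 6, 2, 1, 3, 8, 2, 7, 0, 1, 3, 4, 7, 2, 3, 7, 4, 2, 1, 3, 2, 0, 1, 5, 3, 4, 8]),
  (3182, [3, 5, 4, 6, 1, 3, 2, 8, 0, 3, 1, 2, 7, 5, 4, 3, 2, 0, 7, 4, 3, 5, 1, 2, 0, 1, 7, 4, 3, 4, 8]),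
  (3244, [5, 1, 2, 0, 4, 8, 1, 3, 4, 6, 2, 7, 3, 2, 1, 4, 0, 7, 3, 2, 1, 5, 6, 3, 8, 4, 3, 5, 7, 4, 8]),
  (3253, [5, 1, 2, 0, 8, 3, 4, 1, 2, 6, 3, 4, 7, 3, 8, 2, 4, 1, 3, 0, 8, 2, 1, 5, 6, 4, 5, 3, 7, 4, 8, 5, 3, 6]),
  (3254, [5, 1, 2, 3, 2, 7, 6, 4, 5, 0, 8, 3, 1, 2, 3, 4, 7, 3, 5, 0, 6, 2, 1, 4, 3, 8, 7, 8, 0, 4, 3, 2, 1]),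
  (3255, [5, 1, 2, 0, 8, 3, 4, 1, 2, 6, 3, 4, 7, 3, 8, 2, 4, 1, 3, 0, 8, 2, 1, 5, 6, 4, 5, 3, 7, 3, 8, 7]),
  (3266, [3, 8, 7, 5, 4, 6, 1, 3, 2, 8, 0, 3, 1, 2, 7, 5, 4, 3, 2, 0, 7, 4, 3, 5, 1, 2, 0, 1, 5, 8]),
  (3285, [5, 1, 2, 0, 8, 3, 4, 1, 2, 6, 3, 4, 7, 3, 8, 2, 4, 1, 3, 0, 8, 2, 1, 5, 4, 8, 6, 5, 3, 7, 2, 8, 6]),
  (3317, [3, 8, 7, 5, 4, 6, 1, 3, 2, 8, 0, 3, 1, 2, 7, 5, 4, 3, 2, 0, 7, 4, 3, 5, 1, 2, 0, 1, 4, 3, 8, 7]),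
  (3318, [5, 3, 8, 4, 6, 7, 5, 3, 1, 2, 0, 4, 8, 1, 3, 4, 6, 2, 7, 3, 2, 1, 4, 0, 7, 3, 2, 1, 5, 6, 4, 8]),
  (3331, [5, 3, 8, 4, 6, 7, 5, 3, 2, 1, 3, 8, 2, 7, 0, 1, 3, 4, 7, 2, 3, 7, 4, 2, 1, 3, 2, 0, 1]),
  (3341, [5, 3, 8, 4, 6, 7, 5, 3, 1, 2, 0, 4, 8, 1, 3, 4, 6, 2, 7, 3, 2, 1, 4, 0, 7, 3, 2, 1, 3, 8, 2, 5, 7]),
  (3347, [5, 1, 2, 0, 4, 8, 1, 3, 4, 6, 2, 7, 3, 2, 1, 4, 0, 7, 3, 2, 1, 5, 6, 3, 8, 4, 3, 5, 7, 8, 3, 5]),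
  (3351, [5, 1, 2, 0, 8, 3, 4, 1, 2, 6, 3, 4, 7, 3, 8, 2, 4, 1, 3, 0, 8, 2, 1, 5, 4, 3, 4, 7, 8, 6, 4]),
  (3352, [5, 1, 2, 0, 8, 3, 4, 1, 2, 6, 3, 4, 7, 3, 8, 2, 4, 1, 3, 0, 8, 2, 1, 5, 4, 5, 3, 6, 4, 2, 7, 8, 2]),
  (3365, [5, 8, 3, 7, 1, 2, 0, 8, 3, 4, 1, 2, 6, 3, 4, 7, 3, 8, 2, 4, 1, 3, 0, 8, 2, 1, 5, 6, 4, 3, 7, 8]),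
  (3366, [5, 3, 8, 4, 6, 7, 5, 3, 1, 2, 0, 4, 8, 1, 3, 4, 6, 2, 7, 3, 2, 1, 4, 0, 7, 3, 2, 1, 3, 8]),
  (3367, [5, 3, 8, 4, 6, 7, 5, 3, 1, 2, 0, 4, 8, 1, 3, 4, 6, 2, 7, 3, 2, 1, 4, 0, 7, 3, 2, 1, 5, 8, 3, 7]),
  (3369, [8, 5, 3, 6, 7, 4, 3, 5, 1, 2, 0, 4, 8, 1, 3, 4, 6, 2, 7, 3, 2, 1, 4, 0, 7, 3, 2, 1, 3, 8, 7, 3, 8, 7]),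
  (3370, [3, 5, 6, 4, 5, 2, 1, 3, 8, 2, 7, 0, 1, 3, 4, 7, 2, 3, 7, 4, 2, 1, 3, 2, 0, 1, 8, 5, 3, 6, 2, 7, 5, 3, 4]),
  (3371, [5, 6, 3, 4, 5, 1, 2, 0, 4, 8, 1, 3, 4, 6, 2, 7, 3, 2, 1, 4, 0, 7, 3, 2, 1, 3, 8, 7, 3, 8]),
  (3375, [3, 5, 6, 4, 5, 2, 1, 3, 8, 2, 7, 0, 1, 3, 4, 7, 2, 3, 7, 4, 2, 1, 3, 2, 0, 1, 8, 5, 3, 6, 2, 5, 7]),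
  (3376, [3, 5, 6, 4, 5, 2, 1, 3, 8, 2, 7, 0, 1, 3, 4, 7, 2, 3, 7, 4, 2, 1, 3, 2, 0, 1, 8, 5, 3, 6, 2, 5, 7, 5, 3]),
  (3383, [3, 5, 4, 6, 1, 3, 2, 8, 0, 3, 1, 2, 7, 5, 4, 3, 2, 0, 7, 4, 3, 5, 1, 2, 0, 1, 2, 6, 7, 8, 7]),
  (3384, [3, 5, 6, 4, 5, 2, 1, 3, 8, 2, 7, 0, 1, 3, 4, 7, 2, 3, 7, 4, 2, 1, 3, 2, 0, 1, 8, 5, 3, 6]),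
  (3385, [5, 6, 3, 4, 5, 6, 2, 1, 3, 8, 2, 7, 0, 1, 3, 4, 7, 2, 3, 7, 4, 2, 1, 3, 2, 0, 1, 5, 6, 3, 8, 7]),
  (3409, [5, 1, 2, 0, 8, 3, 4, 1, 2, 6, 3, 4, 7, 3, 8, 2, 4, 1, 3, 0, 8, 2, 1, 5, 4, 5, 3, 6, 4, 2, 7, 8]),
  (3410, [5, 6, 3, 4, 5, 6, 2, 1, 3, 8, 2, 7, 0, 1, 3, 4, 7, 2, 3, 7, 4, 2, 1, 3, 2, 0, 1, 5, 8, 3]),
  (3411, [5, 6, 3, 4, 5, 6, 2, 1, 3, 8, 2, 7, 0, 1, 3, 4, 7, 2, 3, 7, 4, 2, 1, 3, 2, 0, 1, 8]),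
  (3412, [5, 1, 2, 0, 8, 3, 4, 1, 2, 6, 3, 4, 7, 3, 8, 2, 4, 1, 3, 0, 8, 2, 1, 5, 4, 3, 2, 7, 8, 7]),
  (3431, [5, 3, 8, 4, 6, 7, 5, 3, 2, 1, 3, 8, 2, 7, 0, 1, 3, 4, 7, 2, 3, 7, 4, 2, 1, 3, 2, 0, 1, 3, 8, 7]),
  (3432, [5, 3, 8, 4, 6, 7, 3, 5, 4, 7, 5, 1, 2, 0, 4, 8, 1, 3, 4, 6, 2, 7, 3, 2, 1, 4, 0, 7, 3, 2, 1, 2, 8, 7, 3]),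
  (3433, [5, 1, 2, 0, 8, 3, 4, 1, 2, 6, 3, 4, 7, 3, 8, 2, 4, 1, 3, 0, 8, 2, 1, 5, 4, 8, 6, 5, 3, 4, 7, 8]),
  (3434, [5, 1, 2, 0, 4, 8, 1, 3, 4, 6, 2, 7, 3, 2, 1, 4, 0, 7, 3, 2, 1, 5, 6, 3, 8, 4, 3, 2, 7, 3, 8, 4, 7]),
  (3435, [5, 6, 3, 4, 5, 6, 2, 1, 3, 8, 2, 7, 0, 1, 3, 4, 7, 2, 3, 7, 4, 2, 1, 3, 2, 0, 1, 8, 5, 3, 6, 7, 4, 3, 5]),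
  (3453, [5, 3, 8, 4, 6, 7, 8, 5, 1, 3, 8, 2, 7, 0, 1, 3, 4, 7, 2, 3, 7, 4, 2, 1, 3, 2, 0, 1, 8, 3, 5]),
  (3466, [5, 3, 8, 4, 6, 7, 5, 3, 1, 2, 0, 4, 8, 1, 3, 4, 6, 2, 7, 3, 2, 1, 4, 0, 7, 3, 2, 1, 8, 5, 6, 7, 2]),
  (3472, [5, 3, 8, 4, 6, 5, 7, 1, 2, 0, 8, 3, 4, 1, 2, 6, 3, 4, 7, 3, 8, 2, 4, 1, 3, 0, 8, 2, 1, 5, 4, 3, 2, 8]),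
  (3501, [3, 5, 6, 4, 5, 2, 1, 3, 8, 2, 7, 0, 1, 3, 4, 7, 2, 3, 7, 4, 2, 1, 3, 2, 0, 1, 5, 8, 3, 7]),
  (3504, [5, 3, 8, 4, 6, 7, 5, 3, 2, 1, 3, 8, 2, 7, 0, 1, 3, 4, 7, 2, 3, 7, 4, 2, 1, 3, 2, 0, 1, 5, 6, 8]),
  (3509, [3, 5, 6, 4, 5, 2, 1, 3, 8, 2, 7, 0, 1, 3, 4, 7, 2, 3, 7, 4, 2, 1, 3, 2, 0, 1, 3, 8, 7])]⟩

/-- The representatives. -/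
def kids0 : List IKid := [kid0_0]

/-- An assignment. -/
def asg1 : List (ℕ × IPt) := [(0, ⟨7, [7, 4, 3, 1, 2, 0, 1]⟩)]

/-- A representative. -/
def kid1_0 : IKid := ⟨⟨0, []⟩, [
  (0, [])]⟩

/-- A representative. -/
def kid1_1 : IKid := ⟨⟨7, [7, 4, 3, 1, 2, 0, 1]⟩, [
  (7, [])]⟩

/-- A representative. -/
def kid1_2 : IKid := ⟨⟨9, [7, 2, 3, 1, 2, 0, 1]⟩, [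
  (9, []),
  (3136, [1, 4, 5, 2, 6, 0, 7, 5, 4, 7, 6, 1, 3, 2, 7, 6, 4, 3, 6, 2, 4, 3, 1, 0, 7, 3, 8, 2, 1, 7, 4, 5, 6, 4, 1, 2, 5, 4, 5, 3, 2, 0, 4, 7, 3, 1, 2, 3, 0, 4, 1, 0, 2, 7, 3, 2, 1, 2, 7, 4, 8, 5, 6, 4, 7, 5, 3, 4, 5, 2]),
  (3371, [4, 2, 5, 6, 4, 3, 8, 0, 7, 8, 2, 1, 2, 5, 4, 5, 3, 2, 0, 4, 7, 3, 1, 2, 3, 0, 4, 1, 0, 2, 7, 3, 2, 1, 7, 4, 3, 1, 4, 2, 5, 3, 0, 1, 7, 4, 7, 8, 6, 3, 7, 3, 2, 7, 1, 3, 7, 4, 2, 3, 0, 5, 7, 2, 4, 1])]⟩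

/-- A representative. -/
def kid1_3 : IKid := ⟨⟨11, [3, 1, 2, 0, 1]⟩, [
  (11, []),
  (67, [8, 7, 3, 4, 2, 8, 3, 8, 7, 8]),
  (81, [5, 4, 7, 3, 5, 7, 1, 6, 7, 5, 4, 5, 3, 5, 2, 0, 8, 3, 7, 8, 3, 6, 8, 1, 8, 6, 5, 2, 4, 3, 2, 8, 1, 6, 2, 0, 7, 6, 4, 3, 2, 1, 3, 4, 7, 5, 6, 4, 0, 5, 3, 4, 5, 8, 7, 2, 3, 2, 8, 7, 8]),
  (83, [7, 8, 7, 2, 3, 7, 3, 5, 6, 4, 1, 3, 2, 0, 5, 3, 0, 7, 8, 6, 0, 7, 1, 4, 2, 6, 8, 3, 8, 0, 4, 8, 7, 2, 3, 1, 5, 0, 4, 2, 1, 6, 5, 3, 7, 2, 7, 5, 3, 7, 4, 5, 8, 7, 8]),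
  (90, [7, 8, 7, 2, 3, 1, 0, 1, 2, 7, 8, 3, 1, 7, 4, 3, 5, 2, 5, 3, 7, 0, 4, 8, 3, 1, 0, 2, 1, 7]),
  (153, [4, 8, 7, 8, 3, 4, 2, 1, 0, 1, 2, 7, 8, 3, 1, 7, 4, 3, 5, 2, 5, 3, 7, 0, 4, 8, 3, 1, 0, 2, 1, 7]),
  (195, [5, 3, 8, 7, 5, 4, 3, 8, 7, 5, 4, 8, 6, 1, 2, 5, 0, 5, 3, 5, 4, 2, 1, 2, 0, 7, 5, 3, 1, 0, 5, 4, 5, 2, 3, 1, 0, 3, 6, 2, 1, 7, 2, 3, 2, 1, 6, 4, 6, 5, 3, 4, 5, 4, 7, 8, 7, 2, 3, 2, 8, 7, 8]),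
  (209, [4, 8, 7, 8, 3, 4]),
  (221, [8, 7, 3, 4, 2, 8, 3]),
  (222, [8, 7, 8]),
  (253, [7, 8, 7, 2, 3, 2]),
  (274, [5, 2, 6, 7, 5, 1, 4, 8, 7, 5, 1, 3, 6, 7, 2, 6, 4, 5, 3, 6, 7, 2, 6, 4, 3, 5, 6, 4, 5, 2, 8, 7, 8]),
  (316, [1, 4, 2, 4, 7, 8, 3, 4, 0, 1, 7, 3, 2, 8, 1, 4, 3, 4, 8, 7, 3, 0, 2, 6, 1, 4, 6, 3, 4]),
  (318, [2, 1, 0, 1, 2, 7, 8, 3, 1, 7, 4, 3, 5, 2, 5, 3, 7, 0, 4, 8, 3, 1, 0, 2, 1, 7, 8, 7, 3, 4, 2, 8, 3]),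
  (363, [2, 1, 0, 1, 2, 7, 8, 3, 1, 7, 4, 3, 5, 2, 5, 3, 7, 0, 4, 8, 3, 1, 0, 2, 1, 7]),
  (365, [6, 2, 8, 7, 2, 1, 2, 8, 3, 2, 0, 1, 0, 4, 7, 3, 2, 4, 3, 1, 4, 7, 0, 3, 6, 2, 1, 3]),
  (416, [4, 5, 6, 4, 7, 4, 3, 5, 4, 8, 1, 3, 5, 2, 0, 3, 7, 6, 4, 6, 1, 0, 3, 2, 3, 0, 7, 1, 2, 4, 3, 8, 2, 0, 1, 5, 3, 7, 3, 4, 6, 5, 3, 4, 2, 4, 3, 5, 3, 5, 2, 7, 3, 4, 5]),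
  (419, [2, 7, 3, 5, 6, 4, 1, 3, 2, 0, 5, 3, 0, 7, 8, 6, 0, 7, 1, 4, 2, 6, 8, 3, 8, 0, 4, 8, 7, 2, 3, 1, 5, 0, 4, 2, 1, 6, 5, 3, 7, 2, 7, 5, 3, 7, 4, 5]),
  (460, [5, 6, 2, 7, 8, 4, 5, 3, 4, 2, 7, 3, 2, 6, 4, 0, 7, 3, 5, 2, 7, 4, 6, 5, 4, 2, 1, 0, 1, 2, 7, 8, 3, 1, 7, 4, 3, 5, 2, 5, 3, 7, 0, 4, 8, 3, 1, 0, 2, 1, 7, 8, 7, 3, 4, 2, 8, 3]),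
  (487, [7, 8, 7, 2, 3, 2, 5, 4, 7, 3, 5, 7, 1, 2, 4, 2, 8, 0, 4, 2, 6, 4, 5, 7, 1, 0, 4, 3, 8, 4, 2, 1, 7, 3, 4, 6, 2, 7, 3, 0, 1, 2, 4, 5, 6, 0, 1, 4, 7, 5, 3, 7, 4, 5]),
  (490, [8, 7, 8, 5, 3, 8, 7, 5, 4, 3, 8, 7, 5, 4, 8, 6, 1, 2, 5, 0, 5, 3, 5, 4, 2, 1, 2, 0, 7, 5, 3, 1, 0, 5, 4, 5, 2, 3, 1, 0, 3, 6, 2, 1, 7, 2, 3, 2, 1, 6, 4, 6, 5, 3, 4, 5, 4]),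
  (529, [5, 4, 7, 3, 5, 7, 1, 2, 4, 2, 8, 0, 4, 2, 6, 4, 5, 7, 1, 0, 4, 3, 8, 4, 2, 1, 7, 3, 4, 6, 2, 7, 3, 0, 1, 2, 4, 5, 6, 0, 1, 4, 7, 5, 3, 7, 4, 5, 8, 3, 4, 2, 8, 3]),
  (532, [5, 3, 8, 7, 5, 4, 3, 8, 7, 5, 4, 8, 6, 1, 2, 5, 0, 5, 3, 5, 4, 2, 1, 2, 0, 7, 5, 3, 1, 0, 5, 4, 5, 2, 3, 1, 0, 3, 6, 2, 1, 7, 2, 3, 2, 1, 6, 4, 6, 5, 3, 4, 5, 4, 8, 7, 3, 4, 2, 8, 3]),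
  (588, [5, 4, 7, 3, 5, 7, 1, 6, 7, 5, 4, 5, 3, 5, 2, 0, 8, 3, 7, 8, 3, 6, 8, 1, 8, 6, 5, 2, 4, 3, 2, 8, 1, 6, 2, 0, 7, 6, 4, 3, 2, 1, 3, 4, 7, 5, 6, 4, 0, 5, 3, 4, 5, 8, 7, 2, 3, 2]),
  (604, [5, 3, 8, 7, 5, 4, 3, 8, 7, 5, 4, 8, 6, 1, 2, 5, 0, 5, 3, 5, 4, 2, 1, 2, 0, 7, 5, 3, 1, 0, 5, 4, 5, 2, 3, 1, 0, 3, 6, 2, 1, 7, 2, 3, 2, 1, 6, 4, 6, 5, 3, 4, 5, 4]),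
  (627, [7, 8, 7, 2, 3, 7, 3, 5, 6, 4, 1, 3, 2, 0, 5, 3, 0, 7, 8, 6, 0, 7, 1, 4, 2, 6, 8, 3, 8, 0, 4, 8, 7, 2, 3, 1, 5, 0, 4, 2, 1, 6, 5, 3, 7, 2, 7, 5, 3, 7, 4, 5]),
  (634, [5, 3, 8, 7, 5, 4, 3, 8, 7, 5, 4, 8, 6, 1, 2, 5, 0, 5, 3, 5, 4, 2, 1, 2, 0, 7, 5, 3, 1, 0, 5, 4, 5, 2, 3, 1, 0, 3, 6, 2, 1, 7, 2, 3, 2, 1, 6, 4, 6, 5, 3, 4, 5, 4, 7, 8, 7, 2, 3, 2]),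
  (948, [5, 4, 7, 3, 5, 7, 1, 6, 7, 5, 4, 5, 3, 5, 2, 0, 8, 3, 7, 8, 3, 6, 8, 1, 8, 6, 5, 2, 4, 3, 2, 8, 1, 6, 2, 0, 7, 6, 4, 3, 2, 1, 3, 4, 7, 5, 6, 4, 0, 5, 3, 4, 5, 7, 8, 7, 3, 4, 2, 8, 3]),
  (1045, [2, 7, 3, 5, 6, 4, 1, 3, 2, 0, 5, 3, 0, 7, 8, 6, 0, 7, 1, 4, 2, 6, 8, 3, 8, 0, 4, 8, 7, 2, 3, 1, 5, 0, 4, 2, 1, 6, 5, 3, 7, 2, 7, 5, 3, 7, 4, 5, 4, 8, 7, 8, 3, 4]),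
  (1299, [4, 8, 7, 8, 3, 4, 5, 4, 7, 3, 5, 7, 1, 2, 4, 2, 8, 0, 4, 2, 6, 4, 5, 7, 1, 0, 4, 3, 8, 4, 2, 1, 7, 3, 4, 6, 2, 7, 3, 0, 1, 2, 4, 5, 6, 0, 1, 4, 7, 5, 3, 7, 4, 5]),
  (1564, [2, 7, 3, 5, 6, 4, 1, 3, 2, 0, 5, 3, 0, 7, 8, 6, 0, 7, 1, 4, 2, 6, 8, 3, 8, 0, 4, 8, 7, 2, 3, 1, 5, 0, 4, 2, 1, 6, 5, 3, 7, 2, 7, 5, 3, 7, 4, 5, 8, 7, 3, 4, 2, 8, 3]),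
  (1572, [5, 6, 2, 7, 8, 4, 5, 3, 4, 2, 7, 3, 2, 6, 4, 0, 7, 3, 5, 2, 7, 4, 6, 5, 4, 6, 2, 8, 7, 2, 1, 2, 8, 3, 2, 0, 1, 0, 4, 7, 3, 2, 4, 3, 1, 4, 7, 0, 3, 6, 2, 1, 3]),
  (1734, [5, 4, 7, 3, 5, 7, 1, 6, 7, 5, 4, 5, 3, 5, 2, 0, 8, 3, 7, 8, 3, 6, 8, 1, 8, 6, 5, 2, 4, 3, 2, 8, 1, 6, 2, 0, 7, 6, 4, 3, 2, 1, 3, 4, 7, 5, 6, 4, 0, 5, 3, 4, 5, 7]),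
  (1765, [5, 4, 7, 3, 5, 7, 1, 2, 4, 2, 8, 0, 4, 2, 6, 4, 5, 7, 1, 0, 4, 3, 8, 4, 2, 1, 7, 3, 4, 6, 2, 7, 3, 0, 1, 2, 4, 5, 6, 0, 1, 4, 7, 5, 3, 7, 4, 5, 8, 3, 4, 2, 8, 3, 8, 7, 8]),
  (1911, [5, 6, 2, 7, 8, 4, 5, 3, 4, 2, 7, 3, 2, 6, 4, 0, 7, 3, 5, 2, 7, 4, 6, 5, 8, 7, 8, 3, 4, 8, 7, 8]),
  (1961, [5, 4, 7, 3, 5, 7, 1, 2, 4, 2, 8, 0, 4, 2, 6, 4, 5, 7, 1, 0, 4, 3, 8, 4, 2, 1, 7, 3, 4, 6, 2, 7, 3, 0, 1, 2, 4, 5, 6, 0, 1, 4, 7, 5, 3, 7, 4, 5]),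
  (2268, [4, 5, 6, 4, 7, 4, 3, 5, 4, 8, 1, 3, 5, 2, 0, 3, 7, 6, 4, 6, 1, 0, 3, 2, 3, 0, 7, 1, 2, 4, 3, 8, 2, 0, 1, 5, 3, 7, 3, 4, 6, 5, 3, 4, 2, 4, 3, 5, 3, 5, 2, 7, 3, 4, 5, 8, 7, 8]),
  (2383, [5, 2, 6, 7, 5, 1, 4, 8, 7, 5, 1, 3, 6, 7, 2, 6, 4, 5, 3, 6, 7, 2, 6, 4, 3, 5, 6, 4, 5, 2]),
  (2385, [5, 6, 2, 7, 8, 4, 5, 3, 4, 2, 7, 3, 2, 6, 4, 0, 7, 3, 5, 2, 7, 4, 6, 5, 4, 8, 7, 3, 4, 2, 8, 3]),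
  (2407, [5, 6, 2, 7, 8, 4, 5, 3, 4, 2, 7, 3, 2, 6, 4, 0, 7, 3, 5, 2, 7, 4, 6, 5, 4, 1, 4, 2, 4, 7, 8, 3, 4, 0, 1, 7, 3, 2, 8, 1, 4, 3, 4, 8, 7, 3, 0, 2, 6, 1, 4, 6, 3, 4]),
  (2530, [5, 4, 7, 3, 5, 7, 1, 2, 4, 2, 8, 0, 4, 2, 6, 4, 5, 7, 1, 0, 4, 3, 8, 4, 2, 1, 7, 3, 4, 6, 2, 7, 3, 0, 1, 2, 4, 5, 6, 0, 1, 4, 7, 5, 3, 7, 4, 5, 8, 7, 8]),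
  (2630, [5, 6, 2, 7, 8, 4, 5, 3, 4, 2, 7, 3, 2, 6, 4, 0, 7, 3, 5, 2, 7, 4, 6, 5, 4]),
  (2666, [5, 6, 2, 7, 8, 4, 5, 3, 4, 2, 7, 3, 2, 6, 4, 0, 7, 3, 5, 2, 7, 4, 6, 5, 8, 7, 8, 3, 4]),
  (3138, [5, 6, 2, 7, 8, 4, 5, 3, 4, 2, 7, 3, 2, 6, 4, 0, 7, 3, 5, 2, 7, 4, 6, 5, 4, 8, 7, 3, 4, 2, 8, 3, 2, 1, 0, 1, 2, 7, 8, 3, 1, 7, 4, 3, 5, 2, 5, 3, 7, 0, 4, 8, 3, 1, 0, 2, 1, 7]),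
  (3144, [2, 7, 3, 5, 6, 4, 1, 3, 2, 0, 5, 3, 0, 7, 8, 6, 0, 7, 1, 4, 2, 6, 8, 3, 8, 0, 4, 8, 7, 2, 3, 1, 5, 0, 4, 2, 1, 6, 5, 3, 7, 2, 7, 5, 3, 7, 4, 5, 4, 8, 7, 8, 3, 4, 8, 7, 8]),
  (3255, [8, 7, 8, 5, 3, 8, 7, 5, 4, 3, 8, 7, 5, 4, 8, 6, 1, 2, 5, 0, 5, 3, 5, 4, 2, 1, 2, 0, 7, 5, 3, 1, 0, 5, 4, 5, 2, 3, 1, 0, 3, 6, 2, 1, 7, 2, 3, 2, 1, 6, 4, 6, 5, 3, 4, 5, 4, 8, 7, 8]),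
  (3331, [2, 1, 0, 1, 2, 7, 8, 3, 1, 7, 4, 3, 5, 2, 5, 3, 7, 0, 4, 8, 3, 1, 0, 2, 1, 7, 5, 6, 2, 7, 8, 4, 5, 3, 4, 2, 7, 3, 2, 6, 4, 0, 7, 3, 5, 2, 7, 4, 6, 5, 4]),
  (3431, [5, 6, 2, 7, 8, 4, 5, 3, 4, 2, 7, 3, 2, 6, 4, 0, 7, 3, 5, 2, 7, 4, 6, 5, 4, 2, 1, 0, 1, 2, 7, 8, 3, 1, 7, 4, 3, 5, 2, 5, 3, 7, 0, 4, 8, 3, 1, 0, 2, 1, 7])]⟩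

/-- The representatives. -/
def kids1 : List IKid := [kid1_0, kid1_1, kid1_2, kid1_3]

/-- An assignment. -/
def asg2 : List (ℕ × IPt) := [(0, ⟨7, [7, 4, 3, 1, 2, 0, 1]⟩), (6, ⟨0, []⟩)]

/-- The representatives. -/
def kids2 : List IKid := []

/-- An assignment. -/
def asg3 : List (ℕ × IPt) := [(0, ⟨7, [7, 4, 3, 1, 2, 0, 1]⟩), (6, ⟨7, [7, 4, 3, 1, 2, 0, 1]⟩)]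

/-- A representative. -/
def kid3_0 : IKid := ⟨⟨55, [4, 3, 7, 8, 4, 2, 3, 7, 5, 4, 3, 2, 1]⟩, [
  (55, []),
  (107, [4, 3, 4]),
  (176, [4, 6, 3, 4, 7, 6, 4, 0, 7, 1, 2, 0, 7, 5, 4, 7, 3, 1, 8, 5, 6, 2, 7, 3, 5, 6, 4, 1, 3, 6, 7, 2, 1, 3, 2, 0, 1, 5, 3, 6, 4, 5, 8, 3, 7, 4, 2, 3, 2, 7, 5, 6, 4, 5, 1, 2, 3, 0, 1, 7, 0, 4, 0, 2, 3, 6, 4, 2, 7, 3, 8, 5, 1, 0, 6, 4, 5, 2, 7, 6, 8, 6, 1, 8, 3, 8, 7, 8]),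
  (227, [6, 7, 1, 6, 8, 6, 7, 2, 5, 4, 6, 0, 1, 5, 8, 3, 7, 2, 4, 6, 3, 2, 0, 4, 0, 7, 1, 0, 3, 2, 1, 5, 4, 6, 5, 8, 4, 2, 4, 3, 8, 1, 6, 8, 6, 7, 2, 5, 4, 6, 0, 1, 5, 8, 3, 7, 2, 4, 6, 3, 2, 0, 4, 0, 7, 1, 0, 3, 2, 1, 5, 4, 6, 5, 7, 2, 3, 2, 4, 3, 2, 4, 3, 7, 3, 4, 2]),
  (229, [0]),
  (258, [0, 4, 3, 7, 8, 3, 2, 4, 3, 7, 4, 3, 4, 8, 2, 3, 7, 8]),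
  (263, [7, 1, 6, 8, 6, 7, 2, 5, 4, 6, 0, 1, 5, 8, 3, 7, 2, 4, 6, 3, 2, 0, 4, 0, 7, 1, 0, 3, 2, 1, 5, 4, 6, 5, 4, 8, 2, 4, 3, 1, 6, 8, 6, 7, 2, 5, 4, 6, 0, 1, 5, 8, 3, 7, 2, 4, 6, 3, 2, 0, 4, 0, 7, 1, 0, 3, 2, 1, 5, 4, 6, 5, 4, 3, 7, 3, 4, 2, 6]),
  (265, [4, 3, 4, 7, 1, 6, 8, 6, 7, 2, 5, 4, 6, 0, 1, 5, 8, 3, 7, 2, 4, 6, 3, 2, 0, 4, 0, 7, 1, 0, 3, 2, 1, 5, 4, 6, 5, 4, 8, 2, 4, 3, 1, 6, 8, 6, 7, 2, 5, 4, 6, 0, 1, 5, 8, 3, 7, 2, 4, 6, 3, 2, 0, 4, 0, 7, 1, 0, 3, 2, 1, 5, 4, 6, 5, 4, 3, 7, 3, 4, 2, 4, 3, 4]),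
  (280, [0, 4, 3, 4]),
  (306, [4, 7, 8, 3, 2, 4, 3, 7, 4, 3, 4, 8, 2, 3, 7, 8]),
  (309, [4, 3, 7, 8, 3, 2, 4, 3, 7, 4, 3, 4, 8, 2, 3, 7, 8]),
  (322, [6, 0, 7, 1, 6, 8, 6, 7, 2, 5, 4, 6, 0, 1, 5, 8, 3, 7, 2, 4, 6, 3, 2, 0, 4, 0, 7, 1, 0, 3, 2, 1, 5, 4, 6, 5, 8, 4, 2, 4, 3, 8, 1, 6, 8, 6, 7, 2, 5, 4, 6, 0, 1, 5, 8, 3, 7, 2, 4, 6, 3, 2, 0, 4, 0, 7, 1, 0, 3, 2, 1, 5, 4, 6, 5, 7, 2, 3, 2, 4, 3, 2, 4, 3, 7, 3, 4, 2]),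
  (330, [4, 6, 3, 7, 8, 3, 2, 4, 3, 7, 4, 3, 4, 8, 2, 3, 7, 8]),
  (333, [6]),
  (427, [4, 6, 3, 4]),
  (433, [0, 4, 3, 4, 7, 2, 8, 1, 6, 8, 6, 7, 2, 5, 4, 6, 0, 1, 5, 8, 3, 7, 2, 4, 6, 3, 2, 0, 4, 0, 7, 1, 0, 3, 2, 1, 5, 4, 6, 5, 8, 4, 7, 4, 3, 5, 6, 4, 5, 1, 2, 3, 0, 1, 7, 0, 4, 0, 2, 3, 6, 4, 2, 7, 3, 8, 5, 1, 0, 6, 4, 5, 2, 7, 6, 8, 6, 1, 3, 4, 2, 8, 2, 3, 7, 2, 8, 7]),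
  (446, [0, 4, 3, 7, 8, 3, 2, 4, 3, 7, 4, 3, 4, 8, 2, 3, 7, 8, 7, 6, 4, 0, 7, 1, 2, 0, 7, 5, 4, 7, 3, 1, 8, 5, 6, 2, 7, 3, 5, 6, 4, 1, 3, 6, 7, 2, 1, 3, 2, 0, 1, 5, 3, 6, 4, 5, 8, 3, 7, 4, 2, 3, 2, 7, 5, 6, 4, 5, 1, 2, 3, 0, 1, 7, 0, 4, 0, 2, 3, 6, 4, 2, 7, 3, 8, 5, 1, 0, 6, 4, 5, 2, 7, 6, 8, 6, 1, 8, 3, 8, 7, 8]),
  (447, [0, 7, 2, 3, 7, 2, 4, 3, 8, 1, 6, 8, 6, 7, 2, 5, 4, 6, 0, 1, 5, 8, 3, 7, 2, 4, 6, 3, 2, 0, 4, 0, 7, 1, 0, 3, 2, 1, 5, 4, 6, 5, 7, 2, 3, 2, 4, 8, 3, 7, 2, 3, 8, 0, 5, 6, 5, 4, 3, 5, 1, 2, 3, 2, 0, 4, 5, 7, 2, 8, 2, 8, 3, 6, 1, 5, 7, 6, 2, 5, 3, 0, 4, 1, 0, 7, 3, 5, 1, 2, 4, 8, 1, 6, 5, 2, 3, 7, 8, 3, 7]),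
  (476, [4, 7, 8, 3, 2, 4, 3, 7, 4, 3, 4, 8, 2, 3, 7, 8, 6]),
  (556, [0, 7, 1, 6, 8, 6, 7, 2, 5, 4, 6, 0, 1, 5, 8, 3, 7, 2, 4, 6, 3, 2, 0, 4, 0, 7, 1, 0, 3, 2, 1, 5, 4, 6, 5, 4, 8, 2, 4, 3, 1, 6, 8, 6, 7, 2, 5, 4, 6, 0, 1, 5, 8, 3, 7, 2, 4, 6, 3, 2, 0, 4, 0, 7, 1, 0, 3, 2, 1, 5, 4, 6, 5, 4, 3, 7, 3, 4, 2, 6]),
  (558, [0, 7, 1, 6, 8, 6, 7, 2, 5, 4, 6, 0, 1, 5, 8, 3, 7, 2, 4, 6, 3, 2, 0, 4, 0, 7, 1, 0, 3, 2, 1, 5, 4, 6, 5, 8, 4, 2, 4, 3, 8, 1, 6, 8, 6, 7, 2, 5, 4, 6, 0, 1, 5, 8, 3, 7, 2, 4, 6, 3, 2, 0, 4, 0, 7, 1, 0, 3, 2, 1, 5, 4, 6, 5, 7, 2, 3, 2, 4, 3, 2, 4, 3, 7, 3, 4, 2]),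
  (617, [0, 4, 3, 4, 7, 1, 6, 8, 6, 7, 2, 5, 4, 6, 0, 1, 5, 8, 3, 7, 2, 4, 6, 3, 2, 0, 4, 0, 7, 1, 0, 3, 2, 1, 5, 4, 6, 5, 4, 8, 2, 4, 3, 1, 6, 8, 6, 7, 2, 5, 4, 6, 0, 1, 5, 8, 3, 7, 2, 4, 6, 3, 2, 0, 4, 0, 7, 1, 0, 3, 2, 1, 5, 4, 6, 5, 4, 3, 7, 3, 4, 2, 4, 6, 3, 4]),
  (618, [4, 3, 4, 7, 1, 6, 8, 6, 7, 2, 5, 4, 6, 0, 1, 5, 8, 3, 7, 2, 4, 6, 3, 2, 0, 4, 0, 7, 1, 0, 3, 2, 1, 5, 4, 6, 5, 4, 8, 2, 4, 3, 1, 6, 8, 6, 7, 2, 5, 4, 6, 0, 1, 5, 8, 3, 7, 2, 4, 6, 3, 2, 0, 4, 0, 7, 1, 0, 3, 2, 1, 5, 4, 6, 5, 4, 3, 7, 3, 4, 2, 0, 4, 3, 4]),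
  (690, [0, 4, 7, 8, 3, 2, 4, 3, 7, 4, 3, 4, 8, 2, 3, 7, 8]),
  (734, [4, 3, 4, 7, 1, 6, 8, 6, 7, 2, 5, 4, 6, 0, 1, 5, 8, 3, 7, 2, 4, 6, 3, 2, 0, 4, 0, 7, 1, 0, 3, 2, 1, 5, 4, 6, 5, 4, 8, 2, 4, 3, 1, 6, 8, 6, 7, 2, 5, 4, 6, 0, 1, 5, 8, 3, 7, 2, 4, 6, 3, 2, 0, 4, 0, 7, 1, 0, 3, 2, 1, 5, 4, 6, 5, 4, 3, 7, 3, 4, 2]),
  (735, [4, 3, 4, 7, 1, 6, 8, 6, 7, 2, 5, 4, 6, 0, 1, 5, 8, 3, 7, 2, 4, 6, 3, 2, 0, 4, 0, 7, 1, 0, 3, 2, 1, 5, 4, 6, 5, 4, 8, 2, 4, 3, 1, 6, 8, 6, 7, 2, 5, 4, 6, 0, 1, 5, 8, 3, 7, 2, 4, 6, 3, 2, 0, 4, 0, 7, 1, 0, 3, 2, 1, 5, 4, 6, 5, 4, 3, 7, 3, 4, 2, 0]),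
  (1100, [0, 7, 1, 6, 8, 6, 7, 2, 5, 4, 6, 0, 1, 5, 8, 3, 7, 2, 4, 6, 3, 2, 0, 4, 0, 7, 1, 0, 3, 2, 1, 5, 4, 6, 5, 4, 8, 2, 4, 3, 1, 6, 8, 6, 7, 2, 5, 4, 6, 0, 1, 5, 8, 3, 7, 2, 4, 6, 3, 2, 0, 4, 0, 7, 1, 0, 3, 2, 1, 5, 4, 6, 5, 4, 3, 7, 3, 4, 2]),
  (1203, [0, 4, 3, 4, 7, 6, 4, 0, 7, 1, 2, 0, 7, 5, 4, 7, 3, 1, 8, 5, 6, 2, 7, 3, 5, 6, 4, 1, 3, 6, 7, 2, 1, 3, 2, 0, 1, 5, 3, 6, 4, 5, 8, 3, 7, 4, 2, 3, 2, 7, 5, 6, 4, 5, 1, 2, 3, 0, 1, 7, 0, 4, 0, 2, 3, 6, 4, 2, 7, 3, 8, 5, 1, 0, 6, 4, 5, 2, 7, 6, 8, 6, 1, 8, 3, 8, 7, 8]),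
  (1346, [4, 3, 4, 7, 6, 4, 0, 7, 1, 2, 0, 7, 5, 4, 7, 3, 1, 8, 5, 6, 2, 7, 3, 5, 6, 4, 1, 3, 6, 7, 2, 1, 3, 2, 0, 1, 5, 3, 6, 4, 5, 8, 3, 7, 4, 2, 3, 2, 7, 5, 6, 4, 5, 1, 2, 3, 0, 1, 7, 0, 4, 0, 2, 3, 6, 4, 2, 7, 3, 8, 5, 1, 0, 6, 4, 5, 2, 7, 6, 8, 6, 1, 8, 3, 8, 7, 8]),
  (1498, [6, 0]),
  (1982, [6, 0, 4, 3, 4]),
  (2042, [2, 1, 3, 5, 3, 1, 4, 6, 1, 2, 7, 0, 1, 5, 3, 0, 2, 6, 7, 3, 4, 3, 7, 3, 2, 1, 3, 2, 0, 3, 8, 1, 3, 2, 5, 4, 6, 5, 3, 1, 6, 8, 6, 7, 2, 5, 4, 6, 0, 1, 5, 8, 3, 7, 2, 4, 6, 3, 2, 0, 4, 0, 7, 1, 0, 3, 2, 1, 5, 4, 6, 5, 8, 2, 7, 3, 4, 2, 8, 7, 8, 3, 7]),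
  (2400, [4, 7, 8, 3, 2, 4, 3, 7, 4, 3, 4, 8, 2, 3, 7, 8, 6, 0]),
  (2567, [4, 3, 4, 7, 1, 6, 8, 6, 7, 2, 5, 4, 6, 0, 1, 5, 8, 3, 7, 2, 4, 6, 3, 2, 0, 4, 0, 7, 1, 0, 3, 2, 1, 5, 4, 6, 5, 4, 8, 2, 4, 3, 1, 6, 8, 6, 7, 2, 5, 4, 6, 0, 1, 5, 8, 3, 7, 2, 4, 6, 3, 2, 0, 4, 0, 7, 1, 0, 3, 2, 1, 5, 4, 6, 5, 4, 3, 7, 3, 4, 2, 6]),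
  (2570, [4, 3, 2, 0, 7, 3, 4, 2, 6, 8, 3, 7, 3, 4, 8, 2, 3, 7, 8]),
  (2612, [7, 2, 3, 7, 2, 4, 3, 8, 1, 6, 8, 6, 7, 2, 5, 4, 6, 0, 1, 5, 8, 3, 7, 2, 4, 6, 3, 2, 0, 4, 0, 7, 1, 0, 3, 2, 1, 5, 4, 6, 5, 7, 2, 3, 2, 4, 8, 3, 7, 2, 3, 8, 0, 5, 6, 5, 4, 3, 5, 1, 2, 3, 2, 0, 4, 5, 7, 2, 8, 2, 8, 3, 6, 1, 5, 7, 6, 2, 5, 3, 0, 4, 1, 0, 7, 3, 5, 1, 2, 4, 8, 1, 6, 5, 2, 3, 7, 8, 3, 7]),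
  (2645, [4, 3, 7, 8, 3, 2, 4, 3, 7, 4, 3, 4, 8, 2, 3, 7, 8, 7, 6, 4, 0, 7, 1, 2, 0, 7, 5, 4, 7, 3, 1, 8, 5, 6, 2, 7, 3, 5, 6, 4, 1, 3, 6, 7, 2, 1, 3, 2, 0, 1, 5, 3, 6, 4, 5, 8, 3, 7, 4, 2, 3, 2, 7, 5, 6, 4, 5, 1, 2, 3, 0, 1, 7, 0, 4, 0, 2, 3, 6, 4, 2, 7, 3, 8, 5, 1, 0, 6, 4, 5, 2, 7, 6, 8, 6, 1, 8, 3, 8, 7, 8]),
  (2661, [7, 1, 6, 8, 6, 7, 2, 5, 4, 6, 0, 1, 5, 8, 3, 7, 2, 4, 6, 3, 2, 0, 4, 0, 7, 1, 0, 3, 2, 1, 5, 4, 6, 5, 8, 4, 2, 4, 3, 8, 1, 6, 8, 6, 7, 2, 5, 4, 6, 0, 1, 5, 8, 3, 7, 2, 4, 6, 3, 2, 0, 4, 0, 7, 1, 0, 3, 2, 1, 5, 4, 6, 5, 7, 2, 3, 2, 4, 3, 2, 4, 3, 7, 3, 4, 2]),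
  (2674, [6, 4, 3, 4, 7, 1, 6, 8, 6, 7, 2, 5, 4, 6, 0, 1, 5, 8, 3, 7, 2, 4, 6, 3, 2, 0, 4, 0, 7, 1, 0, 3, 2, 1, 5, 4, 6, 5, 4, 8, 2, 4, 3, 1, 6, 8, 6, 7, 2, 5, 4, 6, 0, 1, 5, 8, 3, 7, 2, 4, 6, 3, 2, 0, 4, 0, 7, 1, 0, 3, 2, 1, 5, 4, 6, 5, 4, 3, 7, 3, 4, 2, 4, 3, 4]),
  (2700, [7, 1, 6, 8, 6, 7, 2, 5, 4, 6, 0, 1, 5, 8, 3, 7, 2, 4, 6, 3, 2, 0, 4, 0, 7, 1, 0, 3, 2, 1, 5, 4, 6, 5, 4, 8, 2, 4, 3, 1, 6, 8, 6, 7, 2, 5, 4, 6, 0, 1, 5, 8, 3, 7, 2, 4, 6, 3, 2, 0, 4, 0, 7, 1, 0, 3, 2, 1, 5, 4, 6, 5, 4, 3, 7, 3, 4, 2]),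
  (2823, [0, 7, 6, 4, 0, 7, 1, 2, 0, 7, 5, 4, 7, 3, 1, 8, 5, 6, 2, 7, 3, 5, 6, 4, 1, 3, 6, 7, 2, 1, 3, 2, 0, 1, 5, 3, 6, 4, 5, 8, 3, 7, 4, 2, 3, 2, 7, 5, 6, 4, 5, 1, 2, 3, 0, 1, 7, 0, 4, 0, 2, 3, 6, 4, 2, 7, 3, 8, 5, 1, 0, 6, 4, 5, 2, 7, 6, 8, 6, 1, 8, 3, 8, 7, 8, 4, 3, 4]),
  (2850, [7, 6, 4, 0, 7, 1, 2, 0, 7, 5, 4, 7, 3, 1, 8, 5, 6, 2, 7, 3, 5, 6, 4, 1, 3, 6, 7, 2, 1, 3, 2, 0, 1, 5, 3, 6, 4, 5, 8, 3, 7, 4, 2, 3, 2, 7, 5, 6, 4, 5, 1, 2, 3, 0, 1, 7, 0, 4, 0, 2, 3, 6, 4, 2, 7, 3, 8, 5, 1, 0, 6, 4, 5, 2, 7, 6, 8, 6, 1, 8, 3, 8, 7, 8, 6, 0, 4, 3, 4]),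
  (2865, [0, 7, 6, 4, 0, 7, 1, 2, 0, 7, 5, 4, 7, 3, 1, 8, 5, 6, 2, 7, 3, 5, 6, 4, 1, 3, 6, 7, 2, 1, 3, 2, 0, 1, 5, 3, 6, 4, 5, 8, 3, 7, 4, 2, 3, 2, 7, 5, 6, 4, 5, 1, 2, 3, 0, 1, 7, 0, 4, 0, 2, 3, 6, 4, 2, 7, 3, 8, 5, 1, 0, 6, 4, 5, 2, 7, 6, 8, 6, 1, 8, 3, 8, 7, 8]),
  (3048, [7, 2, 8, 1, 6, 8, 6, 7, 2, 5, 4, 6, 0, 1, 5, 8, 3, 7, 2, 4, 6, 3, 2, 0, 4, 0, 7, 1, 0, 3, 2, 1, 5, 4, 6, 5, 8, 4, 7, 4, 3, 5, 6, 4, 5, 1, 2, 3, 0, 1, 7, 0, 4, 0, 2, 3, 6, 4, 2, 7, 3, 8, 5, 1, 0, 6, 4, 5, 2, 7, 6, 8, 6, 1, 3, 4, 2, 8, 2, 3, 7, 2, 8, 7]),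
  (3205, [7, 2, 8, 1, 6, 8, 6, 7, 2, 5, 4, 6, 0, 1, 5, 8, 3, 7, 2, 4, 6, 3, 2, 0, 4, 0, 7, 1, 0, 3, 2, 1, 5, 4, 6, 5, 8, 4, 7, 4, 3, 5, 6, 4, 5, 1, 2, 3, 0, 1, 7, 0, 4, 0, 2, 3, 6, 4, 2, 7, 3, 8, 5, 1, 0, 6, 4, 5, 2, 7, 6, 8, 6, 1, 3, 4, 2, 8, 2, 3, 7, 2, 8, 7, 0]),
  (3214, [7, 2, 8, 1, 6, 8, 6, 7, 2, 5, 4, 6, 0, 1, 5, 8, 3, 7, 2, 4, 6, 3, 2, 0, 4, 0, 7, 1, 0, 3, 2, 1, 5, 4, 6, 5, 8, 4, 7, 4, 3, 5, 6, 4, 5, 1, 2, 3, 0, 1, 7, 0, 4, 0, 2, 3, 6, 4, 2, 7, 3, 8, 5, 1, 0, 6, 4, 5, 2, 7, 6, 8, 6, 1, 3, 4, 2, 8, 2, 3, 7, 2, 8, 7, 4, 3, 4]),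
  (3251, [7, 6, 4, 0, 7, 1, 2, 0, 7, 5, 4, 7, 3, 1, 8, 5, 6, 2, 7, 3, 5, 6, 4, 1, 3, 6, 7, 2, 1, 3, 2, 0, 1, 5, 3, 6, 4, 5, 8, 3, 7, 4, 2, 3, 2, 7, 5, 6, 4, 5, 1, 2, 3, 0, 1, 7, 0, 4, 0, 2, 3, 6, 4, 2, 7, 3, 8, 5, 1, 0, 6, 4, 5, 2, 7, 6, 8, 6, 1, 8, 3, 8, 7, 8, 4, 3, 4]),
  (3429, [7, 6, 4, 0, 7, 1, 2, 0, 7, 5, 4, 7, 3, 1, 8, 5, 6, 2, 7, 3, 5, 6, 4, 1, 3, 6, 7, 2, 1, 3, 2, 0, 1, 5, 3, 6, 4, 5, 8, 3, 7, 4, 2, 3, 2, 7, 5, 6, 4, 5, 1, 2, 3, 0, 1, 7, 0, 4, 0, 2, 3, 6, 4, 2, 7, 3, 8, 5, 1, 0, 6, 4, 5, 2, 7, 6, 8, 6, 1, 8, 3, 8, 7, 8])]⟩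

/-- The representatives. -/
def kids3 : List IKid := [kid3_0]

/-- An assignment. -/
def asg4 : List (ℕ × IPt) := [(0, ⟨7, [7, 4, 3, 1, 2, 0, 1]⟩), (6, ⟨7, [7, 4, 3, 1, 2, 0, 1]⟩), (8, ⟨55, [4, 3, 7, 8, 4, 2, 3, 7, 5, 4, 3, 2, 1]⟩)]

/-- A representative. -/
def kid4_0 : IKid := ⟨⟨75, [4, 3, 7, 6, 5, 4, 3, 2, 1]⟩, [
  (75, [])]⟩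

/-- A representative. -/
def kid4_1 : IKid := ⟨⟨95, [4, 3, 7, 5, 4, 3, 2, 0, 1]⟩, [
  (95, [])]⟩

/-- A representative. -/
def kid4_2 : IKid := ⟨⟨231, [4, 3, 7, 8, 7, 3, 4, 2, 3, 7, 5, 4, 3, 2, 0, 1]⟩, [
  (231, [])]⟩

/-- A representative. -/
def kid4_3 : IKid := ⟨⟨431, [5, 4, 3, 7, 8, 3, 4, 2, 3, 7, 5, 4, 3, 2, 1]⟩, [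
  (431, []),
  (637, [4, 5, 0, 3, 5, 0, 1, 2, 0, 8, 1, 7, 8, 3, 7, 4, 2, 3, 4, 2, 7, 1, 3, 2, 0, 7, 1, 6, 4, 8, 7, 6, 3, 4, 3])]⟩

/-- A representative. -/
def kid4_4 : IKid := ⟨⟨594, [7, 3, 4, 1, 2, 3, 7, 8, 7, 3, 4, 1, 2, 3, 7, 5, 4, 3, 2, 1]⟩, [
  (594, []),
  (2060, [4, 3, 7, 5, 6, 4, 8, 3, 4, 0, 8, 5, 0, 2, 8, 4, 7, 0, 4, 3, 4, 5, 3, 2, 4, 6, 7, 0, 3, 5, 4, 5, 8, 7, 3, 4, 3])]⟩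

/-- A representative. -/
def kid4_5 : IKid := ⟨⟨1092, [4, 3, 7, 8, 7, 3, 4, 2, 3, 7, 6, 5, 4, 3, 2, 1]⟩, [
  (1092, [])]⟩

/-- A representative. -/
def kid4_6 : IKid := ⟨⟨1179, [4, 5, 3, 4, 2, 3, 7, 8, 7, 4, 5, 3, 4, 2, 3, 7, 6, 5, 4, 3, 2, 1]⟩, [
  (1179, []),
  (1990, [4, 5, 0, 3, 5, 0, 1, 2, 0, 8, 1, 7, 8, 3, 7, 4, 2, 3, 4, 2, 7, 1, 3, 2, 0, 7, 1, 6, 4, 8, 7, 6, 3, 4, 3])]⟩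

/-- The representatives. -/
def kids4 : List IKid := [kid4_0, kid4_1, kid4_2, kid4_3, kid4_4, kid4_5, kid4_6]

/-- An assignment. -/
def asg5 : List (ℕ × IPt) := [(0, ⟨7, [7, 4, 3, 1, 2, 0, 1]⟩), (6, ⟨7, [7, 4, 3, 1, 2, 0, 1]⟩), (8, ⟨55, [4, 3, 7, 8, 4, 2, 3, 7, 5, 4, 3, 2, 1]⟩), (3, ⟨75, [4, 3, 7, 6, 5, 4, 3, 2, 1]⟩)]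

/-- The representatives. -/
def kids5 : List IKid := []

/-- An assignment. -/
def asg6 : List (ℕ × IPt) := [(0, ⟨7, [7, 4, 3, 1, 2, 0, 1]⟩), (6, ⟨7, [7, 4, 3, 1, 2, 0, 1]⟩), (8, ⟨55, [4, 3, 7, 8, 4, 2, 3, 7, 5, 4, 3, 2, 1]⟩), (3, ⟨95, [4, 3, 7, 5, 4, 3, 2, 0, 1]⟩)]

/-- The representatives. -/
def kids6 : List IKid := []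

/-- An assignment. -/
def asg7 : List (ℕ × IPt) := [(0, ⟨7, [7, 4, 3, 1, 2, 0, 1]⟩), (6, ⟨7, [7, 4, 3, 1, 2, 0, 1]⟩), (8, ⟨55, [4, 3, 7, 8, 4, 2, 3, 7, 5, 4, 3, 2, 1]⟩), (3, ⟨231, [4, 3, 7, 8, 7, 3, 4, 2, 3, 7, 5, 4, 3, 2, 0, 1]⟩)]

/-- The representatives. -/
def kids7 : List IKid := []

/-- An assignment. -/
def asg8 : List (ℕ × IPt) := [(0, ⟨7, [7, 4, 3, 1, 2, 0, 1]⟩), (6, ⟨7, [7, 4, 3, 1, 2, 0, 1]⟩), (8, ⟨55, [4, 3, 7, 8, 4, 2, 3, 7, 5, 4, 3, 2, 1]⟩), (3, ⟨431, [5, 4, 3, 7, 8, 3, 4, 2, 3, 7, 5, 4, 3, 2, 1]⟩)]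

/-- The representatives. -/
def kids8 : List IKid := []

/-- An assignment. -/
def asg9 : List (ℕ × IPt) := [(0, ⟨7, [7, 4, 3, 1, 2, 0, 1]⟩), (6, ⟨7, [7, 4, 3, 1, 2, 0, 1]⟩), (8, ⟨55, [4, 3, 7, 8, 4, 2, 3, 7, 5, 4, 3, 2, 1]⟩), (3, ⟨594, [7, 3, 4, 1, 2, 3, 7, 8, 7, 3, 4, 1, 2, 3, 7, 5, 4, 3, 2, 1]⟩)]

/-- The representatives. -/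
def kids9 : List IKid := []

/-- An assignment. -/
def asg10 : List (ℕ × IPt) := [(0, ⟨7, [7, 4, 3, 1, 2, 0, 1]⟩), (6, ⟨7, [7, 4, 3, 1, 2, 0, 1]⟩), (8, ⟨55, [4, 3, 7, 8, 4, 2, 3, 7, 5, 4, 3, 2, 1]⟩), (3, ⟨1092, [4, 3, 7, 8, 7, 3, 4, 2, 3, 7, 6, 5, 4, 3, 2, 1]⟩)]

/-- The representatives. -/
def kids10 : List IKid := []

/-- An assignment. -/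
def asg11 : List (ℕ × IPt) := [(0, ⟨7, [7, 4, 3, 1, 2, 0, 1]⟩), (6, ⟨7, [7, 4, 3, 1, 2, 0, 1]⟩), (8, ⟨55, [4, 3, 7, 8, 4, 2, 3, 7, 5, 4, 3, 2, 1]⟩), (3, ⟨1179, [4, 5, 3, 4, 2, 3, 7, 8, 7, 4, 5, 3, 4, 2, 3, 7, 6, 5, 4, 3, 2, 1]⟩)]

/-- The representatives. -/
def kids11 : List IKid := []

/-- An assignment. -/
def asg12 : List (ℕ × IPt) := [(0, ⟨7, [7, 4, 3, 1, 2, 0, 1]⟩), (6, ⟨9, [7, 2, 3, 1, 2, 0, 1]⟩)]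

/-- A representative. -/
def kid12_0 : IKid := ⟨⟨55, [4, 3, 7, 8, 4, 2, 3, 7, 5, 4, 3, 2, 1]⟩, [
  (55, []),
  (107, [3, 4, 3]),
  (229, [0]),
  (258, [4, 7, 3, 0, 7, 2, 8, 7, 3, 4, 7, 3, 2, 3, 7, 3, 8, 7]),
  (280, [0, 3, 4, 3]),
  (306, [7, 4, 8, 3, 2, 7, 3, 4, 7, 3, 2, 3, 7, 3, 8, 7]),
  (309, [7, 4, 3, 7, 4, 8, 7, 2, 3, 4, 7, 8, 2, 3, 7, 8, 2]),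
  (330, [4, 7, 3, 2, 7, 8, 4, 3, 4, 7, 3, 6, 2, 8, 4, 3, 7, 8]),
  (333, [6]),
  (427, [3, 6, 4, 3]),
  (476, [2, 7, 3, 4, 8, 2, 3, 2, 7, 3, 6, 2, 8, 4, 3, 7, 8]),
  (690, [0, 7, 4, 8, 3, 2, 7, 3, 4, 7, 3, 2, 3, 7, 3, 8, 7]),
  (1498, [0, 6]),
  (1982, [4, 6, 3, 0, 4]),
  (2400, [0, 2, 7, 3, 4, 8, 2, 3, 2, 7, 3, 6, 2, 8, 4, 3, 7, 8]),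
  (2570, [7, 4, 3, 7, 0, 8, 4, 2, 3, 7, 4, 3, 6, 2, 8, 4, 3, 7, 8])]⟩

/-- The representatives. -/
def kids12 : List IKid := [kid12_0]

/-- An assignment. -/
def asg13 : List (ℕ × IPt) := [(0, ⟨7, [7, 4, 3, 1, 2, 0, 1]⟩), (6, ⟨9, [7, 2, 3, 1, 2, 0, 1]⟩), (8, ⟨55, [4, 3, 7, 8, 4, 2, 3, 7, 5, 4, 3, 2, 1]⟩)]

/-- A representative. -/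
def kid13_0 : IKid := ⟨⟨75, [4, 3, 7, 6, 5, 4, 3, 2, 1]⟩, [
  (75, [])]⟩

/-- A representative. -/
def kid13_1 : IKid := ⟨⟨95, [4, 3, 7, 5, 4, 3, 2, 0, 1]⟩, [
  (95, [])]⟩

/-- A representative. -/
def kid13_2 : IKid := ⟨⟨231, [4, 3, 7, 8, 7, 3, 4, 2, 3, 7, 5, 4, 3, 2, 0, 1]⟩, [
  (231, [])]⟩

/-- A representative. -/
def kid13_3 : IKid := ⟨⟨1092, [4, 3, 7, 8, 7, 3, 4, 2, 3, 7, 6, 5, 4, 3, 2, 1]⟩, [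
  (1092, [])]⟩

/-- The representatives. -/
def kids13 : List IKid := [kid13_0, kid13_1, kid13_2, kid13_3]

/-- An assignment. -/
def asg14 : List (ℕ × IPt) := [(0, ⟨7, [7, 4, 3, 1, 2, 0, 1]⟩), (6, ⟨9, [7, 2, 3, 1, 2, 0, 1]⟩), (8, ⟨55, [4, 3, 7, 8, 4, 2, 3, 7, 5, 4, 3, 2, 1]⟩), (3, ⟨75, [4, 3, 7, 6, 5, 4, 3, 2, 1]⟩)]

/-- The representatives. -/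
def kids14 : List IKid := []

/-- An assignment. -/
def asg15 : List (ℕ × IPt) := [(0, ⟨7, [7, 4, 3, 1, 2, 0, 1]⟩), (6, ⟨9, [7, 2, 3, 1, 2, 0, 1]⟩), (8, ⟨55, [4, 3, 7, 8, 4, 2, 3, 7, 5, 4, 3, 2, 1]⟩), (3, ⟨95, [4, 3, 7, 5, 4, 3, 2, 0, 1]⟩)]

/-- A representative. -/
def kid15_0 : IKid := ⟨⟨79, [4, 5, 3, 4, 2, 3, 7, 6, 5, 4, 3, 2, 1]⟩, [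
  (79, [])]⟩

/-- The representatives. -/
def kids15 : List IKid := [kid15_0]

/-- An assignment. -/
def asg16 : List (ℕ × IPt) := [(0, ⟨7, [7, 4, 3, 1, 2, 0, 1]⟩), (6, ⟨9, [7, 2, 3, 1, 2, 0, 1]⟩), (8, ⟨55, [4, 3, 7, 8, 4, 2, 3, 7, 5, 4, 3, 2, 1]⟩), (3, ⟨95, [4, 3, 7, 5, 4, 3, 2, 0, 1]⟩), (5, ⟨79, [4, 5, 3, 4, 2, 3, 7, 6, 5, 4, 3, 2, 1]⟩)]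

/-- A representative. -/
def kid16_0 : IKid := ⟨⟨147, [3, 4, 2, 3, 7, 5, 4, 3, 2, 0, 1]⟩, [
  (147, [])]⟩

/-- The representatives. -/
def kids16 : List IKid := [kid16_0]

/-- An assignment. -/
def asg17 : List (ℕ × IPt) := [(0, ⟨7, [7, 4, 3, 1, 2, 0, 1]⟩), (6, ⟨9, [7, 2, 3, 1, 2, 0, 1]⟩), (8, ⟨55, [4, 3, 7, 8, 4, 2, 3, 7, 5, 4, 3, 2, 1]⟩), (3, ⟨95, [4, 3, 7, 5, 4, 3, 2, 0, 1]⟩), (5, ⟨79, [4, 5, 3, 4, 2, 3, 7, 6, 5, 4, 3, 2, 1]⟩), (2, ⟨147, [3, 4, 2, 3, 7, 5, 4, 3, 2, 0, 1]⟩)]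

/-- A representative. -/
def kid17_0 : IKid := ⟨⟨5, [7, 4, 3, 2, 1]⟩, [
  (5, [])]⟩

/-- The representatives. -/
def kids17 : List IKid := [kid17_0]

/-- An assignment. -/
def asg18 : List (ℕ × IPt) := [(0, ⟨7, [7, 4, 3, 1, 2, 0, 1]⟩), (6, ⟨9, [7, 2, 3, 1, 2, 0, 1]⟩), (8, ⟨55, [4, 3, 7, 8, 4, 2, 3, 7, 5, 4, 3, 2, 1]⟩), (3, ⟨95, [4, 3, 7, 5, 4, 3, 2, 0, 1]⟩), (5, ⟨79, [4, 5, 3, 4, 2, 3, 7, 6, 5, 4, 3, 2, 1]⟩), (2, ⟨147, [3, 4, 2, 3, 7, 5, 4, 3, 2, 0, 1]⟩), (1, ⟨5, [7, 4, 3, 2, 1]⟩)]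

/-- A representative. -/
def kid18_0 : IKid := ⟨⟨102, [2, 3, 7, 5, 4, 3, 2, 1]⟩, [
  (102, [])]⟩

/-- A representative. -/
def kid18_1 : IKid := ⟨⟨250, [4, 3, 7, 6, 5, 4, 3, 2, 0, 1]⟩, [
  (250, [])]⟩

/-- The representatives. -/
def kids18 : List IKid := [kid18_0, kid18_1]

/-- An assignment. -/
def asg19 : List (ℕ × IPt) := [(0, ⟨7, [7, 4, 3, 1, 2, 0, 1]⟩), (6, ⟨9, [7, 2, 3, 1, 2, 0, 1]⟩), (8, ⟨55, [4, 3, 7, 8, 4, 2, 3, 7, 5, 4, 3, 2, 1]⟩), (3, ⟨95, [4, 3, 7, 5, 4, 3, 2, 0, 1]⟩), (5, ⟨79, [4, 5, 3, 4, 2, 3, 7, 6, 5, 4, 3, 2, 1]⟩), (2, ⟨147, [3, 4, 2, 3, 7, 5, 4, 3, 2, 0, 1]⟩), (1, ⟨5, [7, 4, 3, 2, 1]⟩), (7, ⟨102, [2, 3, 7, 5, 4, 3, 2,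 1]⟩)]

/-- A representative. -/
def kid19_0 : IKid := ⟨⟨157, [3, 4, 2, 3, 7, 6, 5, 4, 3, 2, 1]⟩, [
  (157, [])]⟩

/-- The representatives. -/
def kids19 : List IKid := [kid19_0]

/-- An assignment. -/
def asg20 : List (ℕ × IPt) := [(0, ⟨7, [7, 4, 3, 1, 2, 0, 1]⟩), (6, ⟨9, [7, 2, 3, 1, 2, 0, 1]⟩), (8, ⟨55, [4, 3, 7, 8, 4, 2, 3, 7, 5, 4, 3, 2, 1]⟩), (3, ⟨95, [4, 3, 7, 5, 4, 3, 2, 0, 1]⟩), (5, ⟨79, [4, 5, 3, 4, 2, 3, 7, 6, 5, 4, 3, 2, 1]⟩), (2, ⟨147, [3, 4, 2, 3, 7, 5, 4, 3, 2, 0, 1]⟩), (1, ⟨5, [7, 4, 3, 2, 1]⟩), (7, ⟨102, [2, 3, 7, 5, 4, 3, 2, 1]⟩), (4, ⟨157, [3, 4, 2, 3, 7, 6, 5, 4, 3, 2, 1]⟩)]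

/-- The images. -/
def ps20 : List IPt := [⟨7, [7, 4, 3, 1, 2, 0, 1]⟩, ⟨5, [7, 4, 3, 2, 1]⟩, ⟨147, [3, 4, 2, 3, 7, 5, 4, 3, 2, 0, 1]⟩, ⟨95, [4, 3, 7, 5, 4, 3, 2, 0, 1]⟩, ⟨157, [3, 4, 2, 3, 7, 6, 5, 4, 3, 2, 1]⟩, ⟨79, [4, 5, 3, 4, 2, 3, 7, 6, 5, 4, 3, 2, 1]⟩, ⟨9, [7, 2, 3, 1, 2, 0, 1]⟩, ⟨102, [2, 3, 7, 5, 4, 3, 2, 1]⟩, ⟨55, [4, 3, 7, 8, 4, 2, 3, 7, 5, 4, 3, 2, 1]⟩]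

/-- The word. -/
def lw20 : List ℕ := [1]

/-- An assignment. -/
def asg21 : List (ℕ × IPt) := [(0, ⟨7, [7, 4, 3, 1, 2, 0, 1]⟩), (6, ⟨9, [7, 2, 3, 1, 2, 0, 1]⟩), (8, ⟨55, [4, 3, 7, 8, 4, 2, 3, 7, 5, 4, 3, 2, 1]⟩), (3, ⟨95, [4, 3, 7, 5, 4, 3, 2, 0, 1]⟩), (5, ⟨79, [4, 5, 3, 4, 2, 3, 7, 6, 5, 4, 3, 2, 1]⟩), (2, ⟨147, [3, 4, 2, 3, 7, 5, 4, 3, 2, 0, 1]⟩), (1, ⟨5, [7, 4, 3, 2, 1]⟩), (7, ⟨250, [4, 3, 7, 6, 5, 4, 3, 2, 0, 1]⟩)]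

/-- A representative. -/
def kid21_0 : IKid := ⟨⟨157, [3, 4, 2, 3, 7, 6, 5, 4, 3, 2, 1]⟩, [
  (157, [])]⟩

/-- The representatives. -/
def kids21 : List IKid := [kid21_0]

/-- An assignment. -/
def asg22 : List (ℕ × IPt) := [(0, ⟨7, [7, 4, 3, 1, 2, 0, 1]⟩), (6, ⟨9, [7, 2, 3, 1, 2, 0, 1]⟩), (8, ⟨55, [4, 3, 7, 8, 4, 2, 3, 7, 5, 4, 3, 2, 1]⟩), (3, ⟨95, [4, 3, 7, 5, 4, 3, 2, 0, 1]⟩), (5, ⟨79, [4, 5, 3, 4, 2, 3, 7, 6, 5, 4, 3, 2, 1]⟩), (2, ⟨147, [3, 4, 2, 3, 7, 5, 4, 3, 2, 0, 1]⟩), (1, ⟨5, [7, 4, 3, 2, 1]⟩), (7, ⟨250, [4, 3, 7, 6, 5, 4, 3, 2, 0, 1]⟩), (4, ⟨157, [3, 4, 2, 3, 7, 6, 5, 4, 3, 2, 1]⟩)]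

/-- The images. -/
def ps22 : List IPt := [⟨7, [7, 4, 3, 1, 2, 0, 1]⟩, ⟨5, [7, 4, 3, 2, 1]⟩, ⟨147, [3, 4, 2, 3, 7, 5, 4, 3, 2, 0, 1]⟩, ⟨95, [4, 3, 7, 5, 4, 3, 2, 0, 1]⟩, ⟨157, [3, 4, 2, 3, 7, 6, 5, 4, 3, 2, 1]⟩, ⟨79, [4, 5, 3, 4, 2, 3, 7, 6, 5, 4, 3, 2, 1]⟩, ⟨9, [7, 2, 3, 1, 2, 0, 1]⟩, ⟨250, [4, 3, 7, 6, 5, 4, 3, 2, 0, 1]⟩, ⟨55, [4, 3, 7, 8, 4, 2, 3, 7, 5, 4, 3, 2, 1]⟩]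

/-- The word. -/
def lw22 : List ℕ := [1]

/-- An assignment. -/
def asg23 : List (ℕ × IPt) := [(0, ⟨7, [7, 4, 3, 1, 2, 0, 1]⟩), (6, ⟨9, [7, 2, 3, 1, 2, 0, 1]⟩), (8, ⟨55, [4, 3, 7, 8, 4, 2, 3, 7, 5, 4, 3, 2, 1]⟩), (3, ⟨231, [4, 3, 7, 8, 7, 3, 4, 2, 3, 7, 5, 4, 3, 2, 0, 1]⟩)]

/-- The representatives. -/
def kids23 : List IKid := []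

/-- An assignment. -/
def asg24 : List (ℕ × IPt) := [(0, ⟨7, [7, 4, 3, 1, 2, 0, 1]⟩), (6, ⟨9, [7, 2, 3, 1, 2, 0, 1]⟩), (8, ⟨55, [4, 3, 7, 8, 4, 2, 3, 7, 5, 4, 3, 2, 1]⟩), (3, ⟨1092, [4, 3, 7, 8, 7, 3, 4, 2, 3, 7, 6, 5, 4, 3, 2, 1]⟩)]

/-- The representatives. -/
def kids24 : List IKid := []

/-- An assignment. -/
def asg25 : List (ℕ × IPt) := [(0, ⟨7, [7, 4, 3, 1, 2, 0, 1]⟩), (6, ⟨11, [3, 1, 2, 0, 1]⟩)]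

/-- A representative. -/
def kid25_0 : IKid := ⟨⟨2, [2, 1]⟩, [
  (2, []),
  (4, [3, 4, 3]),
  (13, [0]),
  (92, [3, 4, 0, 3]),
  (3063, [0, 2, 7, 2, 8, 7, 0, 2, 5, 6, 4, 3, 2, 3, 7, 5, 3, 4, 3, 7, 6, 8, 2, 7, 0, 1, 7, 1, 5, 8, 3, 4, 6, 3, 5, 1, 6, 2, 7, 4, 0, 1, 4, 2, 8, 4, 3, 4, 7, 2, 3, 4, 2, 1, 0, 7, 3, 6, 2, 1, 8, 1, 5, 7, 4, 7, 6, 3, 5, 4, 1, 7, 2, 3, 7, 4, 5, 2, 6, 3, 4, 5, 7, 0, 8, 3, 4, 3, 7, 8]),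
  (3066, [2, 7, 2, 8, 7, 0, 2, 5, 6, 4, 3, 2, 3, 7, 5, 3, 4, 3, 7, 6, 8, 2, 7, 0, 1, 7, 1, 5, 8, 3, 4, 6, 3, 5, 1, 6, 2, 7, 4, 0, 1, 4, 2, 8, 4, 3, 4, 7, 2, 3, 4, 2, 1, 0, 7, 3, 6, 2, 1, 8, 1, 5, 7, 4, 7, 6, 3, 5, 4, 1, 7, 2, 3, 7, 4, 5, 2, 6, 3, 4, 5, 7, 0, 8, 3, 4, 3, 7, 8]),
  (3267, [8, 7, 3, 4, 3, 8, 7, 8, 1, 5, 7, 4, 7, 6, 3, 5, 4, 1, 7, 2, 3, 7, 4, 5, 2, 6, 3, 4, 5, 7, 0, 4, 1, 6, 2, 7, 4, 0, 1, 4, 2, 8, 4, 3, 4, 7, 2, 3, 4, 2, 1, 0, 7, 3, 6, 2, 1, 8, 1, 5, 7, 4, 7, 6, 3, 5, 4, 1, 7, 2, 3, 7, 4, 5, 2, 6, 3, 4, 5, 7, 0, 8, 3, 4, 3, 7, 8]),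
  (3438, [7, 1, 2, 8, 4, 3, 1, 3, 7, 3, 4, 2, 0, 1, 7, 3, 7, 2, 3, 1, 2, 4, 7, 3, 2, 0, 1, 2, 4, 7, 8, 1, 5, 7, 4, 7, 6, 3, 5, 4, 1, 7, 2, 3, 7, 4, 5, 2, 6, 3, 4, 5, 7, 0, 7, 8, 7, 4, 2, 1, 0, 2, 3, 7, 4, 2, 1, 3, 2, 7, 3, 7, 1, 0, 2, 4, 3, 7, 3, 1, 3, 4, 8, 2, 1, 7])]⟩

/-- The representatives. -/
def kids25 : List IKid := [kid25_0]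

/-- An assignment. -/
def asg26 : List (ℕ × IPt) := [(0, ⟨7, [7, 4, 3, 1, 2, 0, 1]⟩), (6, ⟨11, [3, 1, 2, 0, 1]⟩), (8, ⟨2, [2, 1]⟩)]

/-- The representatives. -/
def kids26 : List IKid := []

end Cfsg.Agent.Spor.Cos.Fi22Inv
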